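import Cfsg.Agent.Lib.PFixCover.Decomp

/-!
Averages over cyclic groups of order `p`, and spanning by fixed points.
-/

set_option autoImplicit false
open Pointwise

namespace CfsgLib.PFixCover

variable {V : Type*} [CommGroup V] {p : ℕ} [Fact p.Prime]

/-- The product of `p` successive translates of `v`. -/
def avgOne (p : ℕ) (a : MulAut V) (v : V) : V := ∏ k ∈ Finset.range p, (a ^ k) v

theorem apply_avgOne {a : MulAut V} (ha : a ^ p = 1) (v : V) : a (avgOne p a v) = avgOne p a v := by
  have h : a (avgOne p a v) * v = avgOne p a v * v := by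
    have h1 := Finset.prod_range_succ' (fun k => (a ^ k) v) p
    have h2 := Finset.prod_range_succ (fun k => (a ^ k) v) p
    rw [h1, ha, pow_zero] at h2
    change a (∏ k ∈ Finset.range p, (a ^ k) v) * v = (∏ k ∈ Finset.range p, (a ^ k) v) * v
    rw [map_prod]
    simpa only [pow_succ', MulAut.mul_apply, MulAut.one_apply] using h2
  exact mul_right_cancel h

theorem avgOne_of_fixed {a : MulAut V} {v : V} (ha : a v = v) : avgOne p a v = v ^ p := by
  have : ∀ k : ℕ, (a ^ k) v = v := by
    intro k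
    induction k with
    | zero => rfl
    | succ k ih => rw [pow_succ, MulAut.mul_apply, ha, ih]
  rw [avgOne, Finset.prod_congr rfl (fun k _ => this k), Finset.prod_const, Finset.card_range]

theorem map_avgOne {a b : MulAut V} (h : Commute a b) (v : V) : b (avgOne p a v) = avgOne p a (b v) := by
  simp only [avgOne, map_prod, ← MulAut.mul_apply, ((h.pow_left _).symm).eq]

theorem mem_fixed_zpowers {a : MulAut V} {v : V} : v ∈ fixed (Subgroup.zpowers a) ↔ a v = v := by
  refine ⟨fun h => h a (Subgroup.mem_zpowers a), fun h b hb => ?_⟩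
  obtain ⟨k, rfl⟩ := Subgroup.mem_zpowers_iff.1 hb
  have hs : Subgroup.zpowers a ≤ MulAction.stabilizer (MulAut V) v := Subgroup.zpowers_le.2 h
  exact hs hb

theorem mem_fixed_sup {D E : Subgroup (MulAut V)} {v : V} (hD : v ∈ fixed D) (hE : v ∈ fixed E) :
    v ∈ fixed (D ⊔ E) := by
  intro b hb
  have hs : D ⊔ E ≤ MulAction.stabilizer (MulAut V) v := sup_le (fun b hb => hD b hb) (fun b hb => hE b hb)
  exact hs hb

/-- The sum of the averages over the lines of a plane. -/
theorem avg_identity {x z : MulAut V} (hxz : Commute x z) (hz : z ^ p = 1) (v : V) :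
    ∏ i ∈ Finset.range p, avgOne p (x * z ^ i) v =
      v ^ p * ∏ k ∈ (Finset.range p).erase 0, (x ^ k) (avgOne p z v) := by
  have hp : p.Prime := Fact.out
  simp only [avgOne]
  rw [Finset.prod_comm, ← Finset.mul_prod_erase (Finset.range p) _ (Finset.mem_range.2 hp.pos)]
  congr 1
  · simp
  refine Finset.prod_congr rfl fun k hk => ?_
  rw [map_prod]
  simp only [Finset.mem_erase, Finset.mem_range] at hk
  have hk' : ¬ p ∣ k := fun h => by
    have := Nat.le_of_dvd (Nat.pos_of_ne_zero hk.1) h
    omega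
  refine Finset.prod_nbij (fun i => i * k % p) (fun i _ => Finset.mem_range.2 (Nat.mod_lt _ hp.pos)) ?_ ?_ ?_
  · intro i hi j hj hij
    simp only [Finset.coe_range, Set.mem_Iio] at hi hj
    have h : i * k ≡ j * k [MOD p] := hij
    have h' : i ≡ j [MOD p] :=
      Nat.ModEq.cancel_right_of_coprime ((hp.coprime_iff_not_dvd).2 hk') h
    rw [Nat.ModEq, Nat.mod_eq_of_lt hi, Nat.mod_eq_of_lt hj] at h'
    exact h'
  · refine Finset.surjOn_of_injOn_of_card_le _ (fun i _ => by simpa using Nat.mod_lt _ hp.pos) ?_ le_rfl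
    intro i hi j hj hij
    simp only [Finset.coe_range, Set.mem_Iio] at hi hj
    have h : i * k ≡ j * k [MOD p] := hij
    have h' : i ≡ j [MOD p] :=
      Nat.ModEq.cancel_right_of_coprime ((hp.coprime_iff_not_dvd).2 hk') h
    rw [Nat.ModEq, Nat.mod_eq_of_lt hi, Nat.mod_eq_of_lt hj] at h'
    exact h'
  · intro i _
    rw [← MulAut.mul_apply, (hxz.pow_right i).mul_pow, ← pow_mul, ← pow_eq_pow_mod _ hz]

theorem pow_mem_root [Finite V] (hV : ¬ p ∣ Nat.card V) {W : Subgroup V} {v : V} (h : v ^ p ∈ W) : v ∈ W := by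
  have hc : (Nat.card V).Coprime p := ((Fact.out : p.Prime).coprime_iff_not_dvd.2 hV).symm
  rw [← (powCoprime hc).symm_apply_apply v]
  exact zpow_mem h _

/-- An abelian group acted on coprimely by an elementary abelian group is spanned by the fixed points of
the subgroups with cyclic quotient. -/
theorem span_fixed [Finite V] (hV : ¬ p ∣ Nat.card V) (E : Subgroup (MulAut V))
    (hE : ∀ a ∈ E, ∀ b ∈ E, a * b = b * a) (hEp : ∀ a ∈ E, a ^ p = 1) (W : Subgroup V)
    (hW : ∀ B ≤ E, (∃ e ∈ E, E ≤ B ⊔ Subgroup.zpowers e) → fixed B ≤ W) : W = ⊤ := by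
  have key : ∀ D : Subgroup (MulAut V), D ≤ E → fixed D ≤ W := by
    intro D
    induction D using (wellFounded_gt (α := Subgroup (MulAut V))).induction with
    | h D ih =>
    intro hD
    by_cases hQ : ∃ e ∈ E, E ≤ D ⊔ Subgroup.zpowers e
    · exact hW D hD hQ
    push Not at hQ
    intro v hv
    obtain ⟨x, hxE, hxD⟩ := SetLike.not_le_iff_exists.1 (hQ 1 (one_mem E))
    obtain ⟨z, hzE, hzD⟩ := SetLike.not_le_iff_exists.1 (hQ x hxE)
    have hxz : Commute x z := hE x hxE z hzE
    have havg : ∀ a ∈ E, a ∉ D → avgOne p a v ∈ W := by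
      intro a haE haD
      refine ih (D ⊔ Subgroup.zpowers a) ?_ (sup_le hD (Subgroup.zpowers_le.2 haE)) ?_
      · exact lt_of_le_of_ne le_sup_left fun h => haD (h ▸ Subgroup.mem_sup_right (Subgroup.mem_zpowers a))
      · refine mem_fixed_sup (fun d hd => ?_) (mem_fixed_zpowers.2 (apply_avgOne (hEp a haE) v))
        rw [map_avgOne (hE a haE d (hD hd)), hv d hd]
    have h1 : ∏ i ∈ Finset.range p, avgOne p (x * z ^ i) v ∈ W := prod_mem fun i _ => by
      refine havg _ (mul_mem hxE (pow_mem hzE i)) fun h => ?_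
      apply hxD
      rw [Subgroup.zpowers_one_eq_bot, sup_bot_eq]
      by_cases hpi : p ∣ i
      · obtain ⟨j, rfl⟩ := hpi
        rwa [pow_mul, hEp z hzE, one_pow, mul_one] at h
      · exfalso
        apply hzD
        have hzi : z ^ i ∈ D ⊔ Subgroup.zpowers x := by
          have h' := mul_mem (Subgroup.mem_sup_right (inv_mem (Subgroup.mem_zpowers x)) : x⁻¹ ∈ D ⊔ Subgroup.zpowers x)
            (Subgroup.mem_sup_left h)
          rwa [inv_mul_cancel_left] at h'
        have hord : orderOf z ∣ p := orderOf_dvd_of_pow_eq_one (hEp z hzE)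
        have hzp : z ∈ Subgroup.zpowers (z ^ i) :=
          mem_zpowers_pow_iff.2 (Nat.Coprime.coprime_dvd_right hord
            (((Fact.out : p.Prime).coprime_iff_not_dvd.2 hpi).symm))
        exact Subgroup.zpowers_le.2 hzi hzp
    have hz' : z ∉ D := fun h => hzD (Subgroup.mem_sup_left h)
    rw [avg_identity hxz (hEp z hzE)] at h1
    have h2 : ∏ k ∈ (Finset.range p).erase 0, (x ^ k) (avgOne p z v) ∈ W := by
      refine prod_mem fun k _ => ?_
      rw [map_avgOne (hxz.pow_left k).symm]
      have hfix : (x ^ k) v ∈ fixed D := fun d hd => by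
        rw [← MulAut.mul_apply, ← ((show Commute x d from hE x hxE d (hD hd)).pow_left k).eq,
          MulAut.mul_apply, hv d hd]
      refine ih (D ⊔ Subgroup.zpowers z) ?_ (sup_le hD (Subgroup.zpowers_le.2 hzE)) ?_
      · exact lt_of_le_of_ne le_sup_left fun h => hz' (h ▸ Subgroup.mem_sup_right (Subgroup.mem_zpowers z))
      · refine mem_fixed_sup (fun d hd => ?_) (mem_fixed_zpowers.2 (apply_avgOne (hEp z hzE) _))
        rw [map_avgOne (hE z hzE d (hD hd)), hfix d hd]
    exact pow_mem_root hV ((W.mul_mem_cancel_right h2).1 h1)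
  rw [eq_top_iff]
  intro v _
  refine key ⊥ bot_le fun b hb => ?_
  rw [Subgroup.mem_bot.1 hb]; rfl

/-- A cyclic fixed-point-free average kills. -/
theorem avgOne_eq_one {z : MulAut V} (hz : z ^ p = 1) (hfpf : fixed (Subgroup.zpowers z) = ⊥) (v : V) :
    avgOne p z v = 1 := by
  have : avgOne p z v ∈ fixed (Subgroup.zpowers z) := mem_fixed_zpowers.2 (apply_avgOne hz v)
  rwa [hfpf, Subgroup.mem_bot] at this

end CfsgLib.PFixCover
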