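import Mathlib

/-!
Decompositions of an abelian group permuted by automorphisms, and averages over a subgroup.
-/

set_option autoImplicit false
open Pointwise

namespace CfsgLib.PFixCover

variable {V : Type*} [CommGroup V]

/-- An internal direct decomposition permuted by `L`. -/
structure Stable (L : Subgroup (MulAut V)) (S : Set (Subgroup V)) : Prop where
  indep : sSupIndep S
  total : sSup S = ⊤
  notBot : ⊥ ∉ S
  perm : ∀ l ∈ L, ∀ W ∈ S, l • W ∈ S

/-- The only stable decomposition is the trivial one. -/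
def Primitive (L : Subgroup (MulAut V)) : Prop :=
  ∀ S : Set (Subgroup V), Stable L S → ∀ W ∈ S, W = ⊤

variable [Finite V]

/-- The fixed points of a set of automorphisms. -/
def fixed (B : Subgroup (MulAut V)) : Subgroup V where
  carrier := {v | ∀ b ∈ B, b v = v}
  one_mem' b _ := map_one b
  mul_mem' {u v} hu hv b hb := by rw [map_mul, hu b hb, hv b hb]
  inv_mem' {u} hu b hb := by rw [map_inv, hu b hb]

omit [Finite V] in
theorem mem_fixed {B : Subgroup (MulAut V)} {v : V} : v ∈ fixed B ↔ ∀ b ∈ B, b v = v := Iff.rfl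

omit [Finite V] in
theorem mem_smul_iff {l : MulAut V} {W : Subgroup V} {v : V} : v ∈ l • W ↔ ∃ w ∈ W, l w = v :=
  Iff.rfl

omit [Finite V] in
theorem fixed_le {B E : Subgroup (MulAut V)} (h : B ≤ E) : fixed E ≤ fixed B :=
  fun _ hv b hb => hv b (h hb)

omit [Finite V] in
theorem conj_fixed (l : MulAut V) (B : Subgroup (MulAut V)) :
    l • fixed B = fixed (MulAut.conj l • B) := by
  ext v
  rw [mem_smul_iff]
  constructor
  · rintro ⟨w, hw, rfl⟩ _ ⟨b, hb, rfl⟩
    change l (b (l⁻¹ (l w))) = l w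
    rw [show l⁻¹ (l w) = w from l.symm_apply_apply w, hw b hb]
  · intro hv
    refine ⟨l⁻¹ v, fun b hb => ?_, l.apply_symm_apply v⟩
    have h := hv _ (Subgroup.smul_mem_pointwise_smul b (MulAut.conj l) B hb)
    change l (b (l⁻¹ v)) = v at h
    apply l.injective
    rw [h]; exact (l.apply_symm_apply v).symm

/-- The product of the translates of `v` under `E`. -/
noncomputable def avg (E : Subgroup (MulAut V)) [Fintype E] : V →* V where
  toFun v := ∏ e : E, (e : MulAut V) v
  map_one' := by simp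
  map_mul' u v := by simp [Finset.prod_mul_distrib]

theorem avg_apply (E : Subgroup (MulAut V)) [Fintype E] (v : V) : avg E v = ∏ e : E, (e : MulAut V) v := rfl

theorem avg_mem_fixed (E : Subgroup (MulAut V)) [Fintype E] (v : V) : avg E v ∈ fixed E := by
  intro b hb
  rw [avg_apply, map_prod]
  exact Fintype.prod_equiv (Equiv.mulLeft (⟨b, hb⟩ : E)) _ _ fun e => rfl

theorem avg_of_fixed (E : Subgroup (MulAut V)) [Fintype E] {v : V} (hv : v ∈ fixed E) :
    avg E v = v ^ Nat.card E := by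
  rw [avg_apply, Finset.prod_congr rfl (fun (e : E) _ => hv e.1 e.2), Finset.prod_const,
    Finset.card_univ, Nat.card_eq_fintype_card]

theorem eq_one_of_pow {p : ℕ} [Fact p.Prime] (hV : ¬ p ∣ Nat.card V) {v : V} {k : ℕ}
    (h : v ^ p ^ k = 1) : v = 1 := by
  rw [← orderOf_eq_one_iff]
  obtain ⟨j, -, hj⟩ := (Nat.dvd_prime_pow Fact.out).1 (orderOf_dvd_of_pow_eq_one h)
  rcases j with _ | j
  · rw [hj, pow_zero]
  · exact absurd ((dvd_pow_self p (Nat.succ_ne_zero j)).trans (hj ▸ orderOf_dvd_natCard v)) hV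

theorem avg_conj {E : Subgroup (MulAut V)} [Fintype E] {l : MulAut V}
    (hl : l ∈ Subgroup.normalizer (E : Set (MulAut V))) (v : V) : avg E (l v) = l (avg E v) := by
  rw [avg_apply, avg_apply, map_prod]
  refine Fintype.prod_equiv ⟨fun e => ⟨l⁻¹ * (e : MulAut V) * l, (Subgroup.mem_normalizer_iff''.1 hl _).1 e.2⟩,
    fun e => ⟨l * (e : MulAut V) * l⁻¹, (Subgroup.mem_normalizer_iff.1 hl _).1 e.2⟩,
    fun e => Subtype.ext (by change l * (l⁻¹ * e.1 * l) * l⁻¹ = e.1; group),
    fun e => Subtype.ext (by change l⁻¹ * (l * e.1 * l⁻¹) * l = e.1; group)⟩ _ _ fun e => ?_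
  change (e : MulAut V) (l v) = l ((l⁻¹ * (e : MulAut V) * l) v)
  simp only [MulAut.mul_apply]
  exact (l.apply_symm_apply _).symm

omit [Finite V] in
/-- Replacing each member of an independent family by an independent family of its parts. -/
theorem sSupIndep_refine {S : Set (Subgroup V)} (hS : sSupIndep S) (D : Subgroup V → Set (Subgroup V))
    (hD : ∀ W ∈ S, sSupIndep (D W) ∧ sSup (D W) = W) : sSupIndep (⋃ W ∈ S, D W) := by
  intro U hU
  simp only [Set.mem_iUnion, exists_prop] at hU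
  obtain ⟨W, hW, hUW⟩ := hU
  rw [Subgroup.disjoint_def]
  intro x hx hx'
  have hle : sSup ((⋃ W ∈ S, D W) \ {U}) ≤ sSup (D W \ {U}) ⊔ sSup (S \ {W}) := by
    refine sSup_le ?_
    rintro U' ⟨hU', hne⟩
    simp only [Set.mem_iUnion, exists_prop] at hU'
    obtain ⟨W', hW', hU'W'⟩ := hU'
    by_cases h : W' = W
    · subst h
      exact le_sup_of_le_left (le_sSup ⟨hU'W', hne⟩)
    · exact le_sup_of_le_right (((hD W' hW').2 ▸ le_sSup hU'W').trans (le_sSup ⟨hW', h⟩))
  obtain ⟨a, ha, b, hb, hab⟩ := Subgroup.mem_sup.1 (hle hx')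
  have hxW : x ∈ W := (hD W hW).2 ▸ (le_sSup hUW) hx
  have haW : a ∈ W := by
    rw [← (hD W hW).2]
    exact SetLike.le_def.1 (sSup_le_sSup Set.sdiff_subset) ha
  have hb1 : b = 1 := by
    refine Subgroup.disjoint_def.1 (hS hW) ?_ hb
    rw [show b = a⁻¹ * x by rw [← hab, inv_mul_cancel_left]]
    exact mul_mem (inv_mem haW) hxW
  rw [hb1, mul_one] at hab
  exact Subgroup.disjoint_def.1 ((hD W hW).1 hUW) hx (hab ▸ ha)

omit [Finite V] in
/-- Components are unique. -/
theorem prod_eq_prod {S : Finset (Subgroup V)} (hS : sSupIndep (S : Set (Subgroup V))) {f g : Subgroup V → V}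
    (hf : ∀ W ∈ S, f W ∈ W) (hg : ∀ W ∈ S, g W ∈ W) (h : ∏ W ∈ S, f W = ∏ W ∈ S, g W) :
    ∀ W ∈ S, f W = g W := by
  classical
  intro W hW
  rw [← Finset.mul_prod_erase S f hW, ← Finset.mul_prod_erase S g hW] at h
  have h1 : (g W)⁻¹ * f W = (∏ U ∈ S.erase W, g U) * (∏ U ∈ S.erase W, f U)⁻¹ := by
    rw [eq_mul_inv_iff_mul_eq, mul_assoc, h, inv_mul_cancel_left]
  have h2 : (g W)⁻¹ * f W = 1 := by
    refine Subgroup.disjoint_def.1 (hS hW) (mul_mem (inv_mem (hg W hW)) (hf W hW)) ?_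
    rw [h1]
    refine mul_mem (prod_mem fun U hU => ?_) (inv_mem (prod_mem fun U hU => ?_))
    · exact (le_sSup (show U ∈ (S : Set (Subgroup V)) \ {W} from
        ⟨Finset.mem_of_mem_erase hU, Finset.ne_of_mem_erase hU⟩)) (hg U (Finset.mem_of_mem_erase hU))
    · exact (le_sSup (show U ∈ (S : Set (Subgroup V)) \ {W} from
        ⟨Finset.mem_of_mem_erase hU, Finset.ne_of_mem_erase hU⟩)) (hf U (Finset.mem_of_mem_erase hU))
  exact (inv_mul_eq_one.1 h2).symm

end CfsgLib.PFixCover
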