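import Mathlib

/-!
A permutation `p`-group, `p` odd, has a subset fixed only by the identity.
-/

set_option autoImplicit false
open Pointwise

namespace CfsgLib.PFixCover

variable {p : ℕ} [Fact p.Prime]

theorem perm_inv_apply {α : Type*} (e : Equiv.Perm α) (a : α) : e⁻¹ (e a) = a := e.symm_apply_apply a

theorem perm_apply_inv {α : Type*} (e : Equiv.Perm α) (a : α) : e (e⁻¹ a) = a := e.apply_symm_apply a

/-- The restriction to an invariant set. -/
def restrictHom {α : Type*} (H : Subgroup (Equiv.Perm α)) (O : Set α)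
    (hinv : ∀ h ∈ H, ∀ a, a ∈ O ↔ h a ∈ O) : H →* Equiv.Perm O where
  toFun h := (h : Equiv.Perm α).subtypePerm (fun a => (hinv h h.2 a).symm)
  map_one' := by ext; rfl
  map_mul' _ _ := by ext; rfl

theorem odd_sq_eq_one {G : Type*} [Group G] (hp : p ≠ 2) (hG : IsPGroup p G) {g : G} (h : g * g = 1) :
    g = 1 := by
  obtain ⟨k, hk⟩ := hG g
  have h2 : g ^ 2 = 1 := by rw [pow_two, h]
  obtain ⟨j, hj⟩ := ((Fact.out : p.Prime).odd_of_ne_two hp).pow (n := k)
  rw [hj, pow_succ, pow_mul, h2, one_pow, one_mul] at hk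
  exact hk

theorem exists_free_subset (hp : p ≠ 2) : ∀ (n : ℕ) {α : Type*} [Finite α],
    Nat.card α = n → ∀ H : Subgroup (Equiv.Perm α), IsPGroup p H →
      ∃ S : Set α, ∀ h ∈ H, h '' S = S → h = 1 := by
  intro n
  induction n using Nat.strong_induction_on with
  | _ n ih =>
  intro α _ hn H hH
  rcases subsingleton_or_nontrivial α with hs | hnt
  · exact ⟨∅, fun h _ _ => Equiv.ext fun a => Subsingleton.elim _ _⟩
  -- free subsets of proper invariant sets
  have hsub : ∀ (K : Subgroup (Equiv.Perm α)), K ≤ H → ∀ O : Set α, O ≠ Set.univ →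
      (∀ h ∈ K, ∀ a, a ∈ O ↔ h a ∈ O) →
      ∃ S : Set α, S ⊆ O ∧ ∀ h ∈ K, h '' S = S → ∀ a ∈ O, h a = a := by
    intro K hK O hO hinv
    have hlt : Nat.card O < n := by
      rw [← hn, Nat.card_coe_set_eq, ← Set.ncard_univ]
      exact Set.ncard_lt_ncard (Set.ssubset_univ_iff.2 hO)
    have hp' : IsPGroup p (restrictHom K O hinv).range :=
      (hH.to_le hK).of_surjective (restrictHom K O hinv).rangeRestrict
        (restrictHom K O hinv).rangeRestrict_surjective
    obtain ⟨S, hS⟩ := ih _ hlt rfl _ hp'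
    refine ⟨Subtype.val '' S, Subtype.coe_image_subset _ _, fun h hh hfix a ha => ?_⟩
    have h1 : (restrictHom K O hinv ⟨h, hh⟩) '' S = S := by
      apply Subtype.val_injective.image_injective
      conv_rhs => rw [← hfix]
      rw [Set.image_image, Set.image_image]
      rfl
    have h2 := hS _ ⟨⟨h, hh⟩, rfl⟩ h1
    exact congrArg (fun e : Equiv.Perm O => (e ⟨a, ha⟩).1) h2
  classical
  obtain ⟨a0⟩ : Nonempty α := inferInstance
  by_cases htr : ∀ b, ∃ h ∈ H, h a0 = b
  swap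
  · -- intransitive
    let O : Set α := {b | ∃ h ∈ H, h a0 = b}
    have hinv : ∀ h ∈ H, ∀ b, b ∈ O ↔ h b ∈ O := by
      intro h hh b
      constructor
      · rintro ⟨k, hk, rfl⟩; exact ⟨h * k, mul_mem hh hk, rfl⟩
      · rintro ⟨k, hk, hkb⟩
        exact ⟨h⁻¹ * k, mul_mem (inv_mem hh) hk, by rw [Equiv.Perm.mul_apply, hkb, perm_inv_apply]⟩
    have hOne : O ≠ Set.univ := fun h => htr fun b => (h ▸ Set.mem_univ b : b ∈ O)
    have hinv' : ∀ h ∈ H, ∀ b, b ∈ Oᶜ ↔ h b ∈ Oᶜ := fun h hh b => not_congr (hinv h hh b)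
    have hOc : Oᶜ ≠ Set.univ := fun h =>
      (Set.compl_univ_iff.1 h).le (show a0 ∈ O from ⟨1, one_mem _, rfl⟩)
    obtain ⟨S1, hS1, hf1⟩ := hsub H le_rfl O hOne hinv
    obtain ⟨S2, hS2, hf2⟩ := hsub H le_rfl Oᶜ hOc hinv'
    refine ⟨S1 ∪ S2, fun h hh hfix => Equiv.ext fun b => ?_⟩
    have himO : h '' O = O := by
      ext b
      constructor
      · rintro ⟨c, hc, rfl⟩; exact (hinv h hh c).1 hc
      · intro hb
        exact ⟨h⁻¹ b, (hinv h hh _).2 (by rwa [perm_apply_inv]), perm_apply_inv h b⟩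
    have e1 : (S1 ∪ S2) ∩ O = S1 := by
      rw [Set.union_inter_distrib_right, Set.inter_eq_left.2 hS1,
        Set.disjoint_iff_inter_eq_empty.1 (Set.disjoint_left.2 fun x hx => hS2 hx), Set.union_empty]
    have e2 : (S1 ∪ S2) ∩ Oᶜ = S2 := by
      rw [Set.union_inter_distrib_right, Set.inter_eq_left.2 hS2,
        Set.disjoint_iff_inter_eq_empty.1 (show Disjoint S1 Oᶜ from Set.disjoint_left.2 fun x hx hx' => (hx' : x ∉ O) (hS1 hx)), Set.empty_union]
    by_cases hb : b ∈ O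
    · refine hf1 h hh ?_ b hb
      rw [← e1, Set.image_inter h.injective, hfix, himO]
    · refine hf2 h hh ?_ b hb
      rw [← e2, Set.image_inter h.injective, hfix, Set.image_compl_eq h.bijective, himO]
  -- transitive: a normal subgroup of index `p` containing a point stabilizer
  let St : Subgroup H := MulAction.stabilizer H a0
  have hSt : St ≠ ⊤ := by
    intro h
    obtain ⟨b, hb⟩ := exists_ne a0
    obtain ⟨k, hk, hkb⟩ := htr b
    exact hb (hkb ▸ (h ▸ Subgroup.mem_top (⟨k, hk⟩ : H) : (⟨k, hk⟩ : H) ∈ St))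
  obtain ⟨M, hM, hStM⟩ := (eq_top_or_exists_le_coatom St).resolve_left hSt
  have hMn : M.Normal := Subgroup.NormalizerCondition.normal_of_coatom M
    (@Group.normalizerCondition_of_isNilpotent _ _ hH.isNilpotent) hM
  let M' : Subgroup (Equiv.Perm α) := M.map H.subtype
  let O : Set α := {b | ∃ m : H, m ∈ M ∧ (m : Equiv.Perm α) a0 = b}
  have ha0 : a0 ∈ O := ⟨1, one_mem _, rfl⟩
  have hstabO : ∀ k : H, (k : Equiv.Perm α) a0 ∈ O → k ∈ M := by
    rintro k ⟨m, hm, hmk⟩
    have h1 : m⁻¹ * k ∈ St := by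
      change ((m⁻¹ * k : H) : Equiv.Perm α) a0 = a0
      rw [Subgroup.coe_mul, Equiv.Perm.mul_apply, ← hmk, Subgroup.coe_inv, perm_inv_apply]
    have := mul_mem hm (hStM h1)
    rwa [mul_inv_cancel_left] at this
  have hOne : O ≠ Set.univ := by
    intro h
    apply hM.1
    refine (Subgroup.eq_top_iff' M).2 fun k => hstabO k ?_
    rw [h]; exact Set.mem_univ _
  have hinv : ∀ h ∈ M', ∀ b, b ∈ O ↔ h b ∈ O := by
    rintro _ ⟨h, hh, rfl⟩ b
    constructor
    · rintro ⟨m, hm, rfl⟩; exact ⟨h * m, mul_mem hh hm, rfl⟩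
    · rintro ⟨m, hm, hmb⟩
      refine ⟨h⁻¹ * m, mul_mem (inv_mem hh) hm, ?_⟩
      rw [Subgroup.coe_mul, Equiv.Perm.mul_apply, hmb, Subgroup.coe_inv]
      exact perm_inv_apply _ _
  obtain ⟨S, hSO, hfree⟩ := hsub M' (Subgroup.map_subtype_le M) O hOne hinv
  -- the translate of `O` through a point, with a chosen translating element
  have hcov : ∀ b, ∃ k : H, b ∈ (k : Equiv.Perm α) '' O := fun b => by
    obtain ⟨k, hk, hkb⟩ := htr b
    exact ⟨⟨k, hk⟩, a0, ha0, hkb⟩
  have himO : ∀ m : H, m ∈ M → (m : Equiv.Perm α) '' O = O := by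
    intro m hm
    ext b
    constructor
    · rintro ⟨c, hc, rfl⟩; exact (hinv _ ⟨m, hm, rfl⟩ c).1 hc
    · intro hb
      exact ⟨(m : Equiv.Perm α)⁻¹ b, (hinv _ ⟨m, hm, rfl⟩ _).2 (by
        rw [Subgroup.coe_subtype, perm_apply_inv]; exact hb), perm_apply_inv _ b⟩
  have hblock : ∀ k k' : H, ∀ b, b ∈ (k : Equiv.Perm α) '' O → b ∈ (k' : Equiv.Perm α) '' O →
      k'⁻¹ * k ∈ M := by
    rintro k k' b ⟨c, ⟨m, hm, rfl⟩, rfl⟩ ⟨c', ⟨m', hm', rfl⟩, hc'⟩
    have h1 : ((m'⁻¹ * k'⁻¹ * k * m : H) : Equiv.Perm α) a0 = a0 := by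
      rw [Subgroup.coe_mul, Subgroup.coe_mul, Subgroup.coe_mul, Equiv.Perm.mul_apply, Equiv.Perm.mul_apply,
        Equiv.Perm.mul_apply, ← hc', Subgroup.coe_inv, Subgroup.coe_inv, perm_inv_apply,
        perm_inv_apply]
    have h2 : m'⁻¹ * k'⁻¹ * k * m ∈ M := hStM h1
    have h3 := mul_mem (mul_mem hm' h2) (inv_mem hm)
    rwa [show m' * (m'⁻¹ * k'⁻¹ * k * m) * m⁻¹ = k'⁻¹ * k by group] at h3
  let rep : α → H := fun b => (hcov b).choose
  have hrep : ∀ b, b ∈ (rep b : Equiv.Perm α) '' O := fun b => (hcov b).choose_spec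
  -- choose one translating element for each translate
  let key : Set α → H := fun B => if h : ∃ k : H, (k : Equiv.Perm α) '' O = B then h.choose else 1
  let blk : α → Set α := fun b => (rep b : Equiv.Perm α) '' O
  have hblk_eq : ∀ (k : H) b, b ∈ (k : Equiv.Perm α) '' O → blk b = (k : Equiv.Perm α) '' O := by
    intro k b hb
    have h1 := hblock (rep b) k b (hrep b) hb
    change (rep b : Equiv.Perm α) '' O = _
    conv_rhs => rw [← himO _ h1, Set.image_image]
    refine Set.image_congr fun c _ => ?_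
    rw [← Equiv.Perm.mul_apply, ← Subgroup.coe_mul, mul_inv_cancel_left]
  have hkey : ∀ b, (key (blk b) : Equiv.Perm α) '' O = blk b := by
    intro b
    have h : ∃ k : H, (k : Equiv.Perm α) '' O = blk b := ⟨rep b, rfl⟩
    simp only [key, dif_pos h]
    exact h.choose_spec
  let T : Set α := {b | if blk b = O then b ∈ S else ((key (blk b) : Equiv.Perm α)⁻¹ b) ∈ O \ S}
  refine ⟨T, fun h hh hfix => ?_⟩
  have hTO : T ∩ O = S := by
    ext b
    constructor
    · rintro ⟨hb, hbO⟩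
      have : blk b = O := by
        rw [hblk_eq 1 b ⟨b, hbO, rfl⟩]; exact Set.image_id O
      simpa [T, this] using hb
    · intro hb
      have : blk b = O := by
        rw [hblk_eq 1 b ⟨b, hSO hb, rfl⟩]; exact Set.image_id O
      exact ⟨by simp [T, this, hb], hSO hb⟩
  have hTB : ∀ b, blk b ≠ O → T ∩ blk b = (key (blk b) : Equiv.Perm α) '' (O \ S) := by
    intro b hb
    ext c
    constructor
    · rintro ⟨hc, hcb⟩
      have hbc : blk c = blk b := hblk_eq _ c hcb
      simp only [T, Set.mem_ofPred_eq, hbc, if_neg hb] at hc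
      exact ⟨_, hc, perm_apply_inv _ _⟩
    · rintro ⟨d, hd, rfl⟩
      have hcb : (key (blk b) : Equiv.Perm α) d ∈ blk b := by
        rw [← hkey b]
        exact ⟨d, hd.1, by rw [hkey b]⟩
      have hbc : blk ((key (blk b) : Equiv.Perm α) d) = blk b := hblk_eq _ _ hcb
      refine ⟨?_, hcb⟩
      simp only [T, Set.mem_ofPred_eq, hbc, if_neg hb, perm_inv_apply]
      exact hd
  have hhM : (⟨h, hh⟩ : H) ∈ M := by
    by_contra hhM
    have hb : h a0 ∈ h '' O := ⟨a0, ha0, rfl⟩
    have hblk : blk (h a0) = h '' O := hblk_eq ⟨h, hh⟩ _ hb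
    have hne : blk (h a0) ≠ O := fun e => hhM (hstabO ⟨h, hh⟩ (by
      change h a0 ∈ O
      rw [← e, hblk]; exact hb))
    have h1 : h '' S = (key (blk (h a0)) : Equiv.Perm α) '' (O \ S) := by
      rw [← hTO, Set.image_inter h.injective, hfix, ← hblk, hTB _ hne, hTO]
    let k : H := (key (blk (h a0)))⁻¹ * ⟨h, hh⟩
    have hk1 : (k : Equiv.Perm α) '' S = O \ S := by
      change (((key (blk (h a0)) : Equiv.Perm α))⁻¹ * h : Equiv.Perm α) '' S = _
      rw [Equiv.Perm.coe_mul, Set.image_comp, h1, ← Set.image_comp]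
      simp
    have hkO : (k : Equiv.Perm α) '' O = O := by
      change (((key (blk (h a0)) : Equiv.Perm α))⁻¹ * h : Equiv.Perm α) '' O = _
      rw [Equiv.Perm.coe_mul, Set.image_comp, ← hblk]
      nth_rw 2 [← hkey (h a0)]
      rw [← Set.image_comp]
      simp
    have hkM : k ∈ M := hstabO k (hkO ▸ ⟨a0, ha0, rfl⟩)
    have hk2 : (k : Equiv.Perm α) '' (O \ S) = S := by
      rw [Set.image_sdiff (k : Equiv.Perm α).injective, hkO, hk1, Set.sdiff_sdiff_cancel_left hSO]
    have hsq := hfree ((k * k : H) : Equiv.Perm α) ⟨k * k, mul_mem hkM hkM, rfl⟩ (by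
      rw [Subgroup.coe_mul, Equiv.Perm.coe_mul, Set.image_comp, hk1, hk2])
    have hfixk : ∀ a ∈ O, (k : Equiv.Perm α) a = a := by
      intro a ha
      obtain ⟨i, hi⟩ := hH k
      obtain ⟨j, hj⟩ := ((Fact.out : p.Prime).odd_of_ne_two hp).pow (n := i)
      have hpw : ∀ t : ℕ, ((k * k : H) : Equiv.Perm α) a = a →
          (((k * k) ^ t : H) : Equiv.Perm α) a = a := by
        intro t ht
        induction t with
        | zero => rfl
        | succ t iht => rw [pow_succ, Subgroup.coe_mul, Equiv.Perm.mul_apply, ht, iht]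
      rw [hj, pow_succ', pow_mul, pow_two] at hi
      have h2 := congrArg (fun e : H => (e : Equiv.Perm α) a) hi
      simp only [Subgroup.coe_mul, Equiv.Perm.mul_apply, hpw j (hsq a ha), Subgroup.coe_one,
        Equiv.Perm.one_apply] at h2
      exact h2
    have h3 : (k : Equiv.Perm α) '' S = S := by
      conv_rhs => rw [← Set.image_id S]
      exact Set.image_congr fun a ha => hfixk a (hSO ha)
    rw [hk1] at h3
    by_cases ha : a0 ∈ S
    · exact (h3.symm ▸ ha : a0 ∈ O \ S).2 ha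
    · exact ha (h3 ▸ ⟨ha0, ha⟩)
  refine Equiv.ext fun b => ?_
  have hm : ⟨h, hh⟩ ∈ M := hhM
  obtain ⟨k, hk⟩ : ∃ k, k = key (blk b) := ⟨_, rfl⟩
  have hb : b ∈ (k : Equiv.Perm α) '' O := by rw [hk, hkey b]; exact hrep b
  let m : H := k⁻¹ * ⟨h, hh⟩ * k
  have hmM : m ∈ M := by simpa [m] using hMn.conj_mem _ hm k⁻¹
  have himage : (m : Equiv.Perm α) '' O = O := himO m hmM
  have hhblk : h '' blk b = blk b := by
    rw [← hkey b, ← hk, Set.image_image]
    conv_rhs => rw [← himage, Set.image_image]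
    refine Set.image_congr fun c _ => ?_
    change h ((k : Equiv.Perm α) c) = (k : Equiv.Perm α) ((((k⁻¹ * ⟨h, hh⟩ * k : H)) : Equiv.Perm α) c)
    simp
  by_cases hbO : blk b = O
  · have hbO' : b ∈ O := hbO ▸ hrep b
    refine hfree h ⟨⟨h, hh⟩, hm, rfl⟩ ?_ b hbO'
    rw [← hTO, Set.image_inter h.injective, hfix]
    congr 1
    exact himO ⟨h, hh⟩ hm
  · have h1 : h '' ((k : Equiv.Perm α) '' (O \ S)) = (k : Equiv.Perm α) '' (O \ S) := by
      rw [hk, ← hTB b hbO, Set.image_inter h.injective, hfix, hhblk]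
    have hmS : (m : Equiv.Perm α) '' (O \ S) = O \ S := by
      apply (k : Equiv.Perm α).injective.image_injective
      conv_rhs => rw [← h1]
      rw [Set.image_image, Set.image_image]
      refine Set.image_congr fun c _ => ?_
      change (k : Equiv.Perm α) ((((k⁻¹ * ⟨h, hh⟩ * k : H)) : Equiv.Perm α) c) = _
      simp
    have hmS' : (m : Equiv.Perm α) '' S = S := by
      rw [show S = O \ (O \ S) from (Set.sdiff_sdiff_cancel_left hSO).symm,
        Set.image_sdiff (m : Equiv.Perm α).injective, himage, hmS]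
    obtain ⟨c, hc, rfl⟩ := hb
    have h2 := hfree (m : Equiv.Perm α) ⟨m, hmM, rfl⟩ hmS' c hc
    have h3 := congrArg (k : Equiv.Perm α) h2
    change (k : Equiv.Perm α) ((((k⁻¹ * ⟨h, hh⟩ * k : H)) : Equiv.Perm α) c) = _ at h3
    simpa using h3

end CfsgLib.PFixCover
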