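import Cfsg.Agent.Lib.PFixCover.Primitive
import Cfsg.Agent.Lib.PFixCover.FreeSubset

/-!
A coprime module of an odd `p`-group is not covered by the fixed spaces of one class.
-/

set_option autoImplicit false
open Pointwise

namespace CfsgLib.PFixCover

variable {V : Type*} [CommGroup V] [Finite V] {p : ℕ} [Fact p.Prime]

/-- The permutation of the members of a stable decomposition. -/
noncomputable def blockPerm {L : Subgroup (MulAut V)} {S : Set (Subgroup V)} (hS : Stable L S) :
    L →* Equiv.Perm S :=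
  MonoidHom.mk'
    (fun l => Equiv.ofBijective (fun W => ⟨(l : MulAut V) • (W : Subgroup V), hS.perm l l.2 W W.2⟩)
      (Finite.injective_iff_bijective.1 fun U W h =>
        Subtype.ext (smul_left_cancel _ (congrArg Subtype.val h))))
    (fun a b => Equiv.ext fun W => Subtype.ext (mul_smul (a : MulAut V) (b : MulAut V) (W : Subgroup V)))

theorem blockPerm_apply {L : Subgroup (MulAut V)} {S : Set (Subgroup V)} (hS : Stable L S) (l : L) (W : S) :
    ((blockPerm hS l W : S) : Subgroup V) = (l : MulAut V) • (W : Subgroup V) := rfl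

/-- Restriction to an invariant subgroup. -/
noncomputable def blockRes (W : Subgroup V) : MulAction.stabilizer (MulAut V) W →* MulAut W :=
  MonoidHom.mk'
    (fun l => MulEquiv.ofBijective
      ({ toFun := fun w => ⟨(l : MulAut V) w, (show (l : MulAut V) • W = W from l.2).le
            (Subgroup.smul_mem_pointwise_smul w.1 (l : MulAut V) W w.2)⟩
         map_one' := Subtype.ext (map_one _)
         map_mul' := fun a b => Subtype.ext (map_mul (l : MulAut V) a.1 b.1) } : W →* W)
      (Finite.injective_iff_bijective.1 fun a b h =>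
        Subtype.ext ((l : MulAut V).injective (congrArg Subtype.val h))))
    (fun a b => MulEquiv.ext fun w => Subtype.ext rfl)

theorem blockRes_apply {W : Subgroup V} (l : MulAction.stabilizer (MulAut V) W) (w : W) :
    ((blockRes W l w : W) : V) = (l : MulAut V) w := rfl

omit [Finite V] [Fact p.Prime] in
/-- The image of a stable independent family. -/
theorem sSupIndep_image {A : Type*} [Group A] {S : Set (Subgroup A)} (hS : sSupIndep S) {B : Type*} [Group B]
    (f : A →* B) (hf : Function.Injective f) : sSupIndep ((fun U => U.map f) '' S) := by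
  rintro _ ⟨U, hU, rfl⟩
  have hle : sSup ((fun U => U.map f) '' S \ {U.map f}) ≤ (sSup (S \ {U})).map f := by
    refine sSup_le ?_
    rintro _ ⟨⟨U', hU', rfl⟩, hne⟩
    exact Subgroup.map_mono (le_sSup ⟨hU', fun h => hne (by rw [Set.mem_singleton_iff.1 h]; rfl)⟩)
  refine Disjoint.mono_right hle ?_
  rw [disjoint_iff, ← Subgroup.map_inf _ _ f hf, (hS hU).eq_bot, Subgroup.map_bot]

omit [Finite V] [Fact p.Prime] in
theorem eq_smul_of_inter {S : Set (Subgroup V)} (hS : sSupIndep S) {W W' : Subgroup V} (hW : W ∈ S)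
    (hW' : W' ∈ S) {x : V} (hx : x ∈ W) (hx' : x ∈ W') (hx1 : x ≠ 1) : W = W' := by
  by_contra h
  exact hx1 (Subgroup.disjoint_def.1 (hS hW) hx ((le_sSup (show W' ∈ S \ {W} from ⟨hW', Ne.symm h⟩)) hx'))

/-- In a decomposition with the largest number of members every block is primitive. -/
theorem primitive_block {L : Subgroup (MulAut V)} {S : Set (Subgroup V)} (hS : Stable L S)
    (hmax : ∀ S', Stable L S' → S'.ncard ≤ S.ncard) {W : Subgroup V} (hW : W ∈ S) :
    Primitive ((L.subgroupOf (MulAction.stabilizer (MulAut V) W)).map (blockRes W)) := by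
  intro T hT U hU
  by_contra hUne
  classical
  let T' : Set (Subgroup V) := (fun X : Subgroup W => X.map W.subtype) '' T
  have hT'i : sSupIndep T' := sSupIndep_image hT.indep W.subtype W.subtype_injective
  have hT's : sSup T' = W := by
    rw [show T' = (fun X : Subgroup W => X.map W.subtype) '' T from rfl, sSup_image,
      ← (Subgroup.gc_map_comap W.subtype).l_sSup, hT.total, ← MonoidHom.range_eq_map, Subgroup.range_subtype]
  have hT'stab : ∀ k ∈ L, k • W = W → ∀ X ∈ T', k • X ∈ T' := by
    rintro k hk hkW _ ⟨X, hX, rfl⟩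
    have hk' : (⟨k, hkW⟩ : MulAction.stabilizer (MulAut V) W) ∈ L.subgroupOf _ := hk
    refine ⟨_, hT.perm _ ⟨⟨k, hkW⟩, hk', rfl⟩ X hX, ?_⟩
    ext v
    constructor
    · rintro ⟨_, ⟨w, hw, rfl⟩, rfl⟩
      exact ⟨(w : V), ⟨w, hw, rfl⟩, rfl⟩
    · rintro ⟨_, ⟨w, hw, rfl⟩, rfl⟩
      exact ⟨_, ⟨w, hw, rfl⟩, rfl⟩
  -- transport the decomposition of `W` along its orbit
  let D : Subgroup V → Set (Subgroup V) := fun W' =>
    if h : ∃ l ∈ L, l • W = W' then (fun X => h.choose • X) '' T' else {W'}
  have hD : ∀ l ∈ L, ∀ X ∈ T', l • X ∈ D (l • W) := by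
    intro l hl X hX
    have h : ∃ m ∈ L, m • W = l • W := ⟨l, hl, rfl⟩
    simp only [D, dif_pos h]
    refine ⟨(h.choose⁻¹ * l) • X, hT'stab _ (mul_mem (inv_mem h.choose_spec.1) hl) ?_ X hX, ?_⟩
    · rw [mul_smul]
      exact inv_smul_eq_iff.2 h.choose_spec.2.symm
    · change h.choose • (h.choose⁻¹ * l) • X = l • X
      rw [← mul_smul, mul_inv_cancel_left]
  have hDprop : ∀ W' ∈ S, sSupIndep (D W') ∧ sSup (D W') = W' ∧ ⊥ ∉ D W' ∧ 1 ≤ (D W').ncard := by
    intro W' hW'
    by_cases h : ∃ m ∈ L, m • W = W'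
    · simp only [D, dif_pos h]
      refine ⟨?_, ?_, ?_, ?_⟩
      · exact sSupIndep_image hT'i (h.choose : MulAut V).toMonoidHom (h.choose : MulAut V).injective
      · rw [sSup_image]
        have hg : (⨆ X ∈ T', (X.map (h.choose : MulAut V).toMonoidHom)) =
            (sSup T').map (h.choose : MulAut V).toMonoidHom :=
          ((Subgroup.gc_map_comap _).l_sSup).symm
        refine hg.trans ?_
        rw [hT's]
        exact h.choose_spec.2
      · rintro ⟨_, ⟨X, hX, rfl⟩, h0⟩
        have h1 : (X.map W.subtype) = ⊥ := by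
          rw [← inv_smul_smul (h.choose : MulAut V) (X.map W.subtype),
            show (h.choose : MulAut V) • X.map W.subtype = ⊥ from h0]
          exact Subgroup.smul_bot _
        rw [Subgroup.map_eq_bot_iff_of_injective _ W.subtype_injective] at h1
        exact hT.notBot (h1 ▸ hX)
      · refine (Set.ncard_pos (Set.toFinite _)).2 ?_
        exact ⟨_, _, ⟨U, hU, rfl⟩, rfl⟩
    · simp only [D, dif_neg h]
      refine ⟨sSupIndep_singleton W', sSup_singleton, ?_, by rw [Set.ncard_singleton]⟩
      intro h0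
      exact hS.notBot ((Set.mem_singleton_iff.1 h0).symm ▸ hW')
  let S' : Set (Subgroup V) := ⋃ W' ∈ S, D W'
  have hS' : Stable L S' := by
    refine ⟨sSupIndep_refine hS.indep D fun W' hW' => ⟨(hDprop W' hW').1, (hDprop W' hW').2.1⟩, ?_, ?_, ?_⟩
    · rw [eq_top_iff, ← hS.total]
      refine sSup_le fun W' hW' => ?_
      rw [← (hDprop W' hW').2.1]
      exact sSup_le_sSup (Set.subset_biUnion_of_mem (u := D) hW')
    · intro h0
      simp only [S', Set.mem_iUnion, exists_prop] at h0
      obtain ⟨W', hW', h0⟩ := h0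
      exact (hDprop W' hW').2.2.1 h0
    · intro l hl X hX
      simp only [S', Set.mem_iUnion, exists_prop] at hX ⊢
      obtain ⟨W', hW', hX⟩ := hX
      refine ⟨l • W', hS.perm l hl W' hW', ?_⟩
      by_cases h : ∃ m ∈ L, m • W = W'
      · simp only [D, dif_pos h] at hX
        obtain ⟨Y, hY, rfl⟩ := hX
        have := hD (l * h.choose) (mul_mem hl h.choose_spec.1) Y hY
        rwa [mul_smul, mul_smul, h.choose_spec.2] at this
      · have h' : ¬ ∃ m ∈ L, m • W = l • W' := by
          rintro ⟨m, hm, hmW⟩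
          exact h ⟨l⁻¹ * m, mul_mem (inv_mem hl) hm, by rw [mul_smul, hmW, inv_smul_smul]⟩
        simp only [D, dif_neg h, Set.mem_singleton_iff] at hX
        simp only [D, dif_neg h', Set.mem_singleton_iff, hX]
  have htwo : 2 ≤ (D W).ncard := by
    have h2 : ∃ X ∈ T, X ≠ U := by
      by_contra! hc
      apply hUne
      rw [eq_top_iff, ← hT.total]
      exact sSup_le fun X hX => (hc X hX).le
    obtain ⟨X, hX, hXU⟩ := h2
    have e1 := hD 1 (one_mem L) _ (⟨U, hU, rfl⟩ : U.map W.subtype ∈ T')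
    have e2 := hD 1 (one_mem L) _ (⟨X, hX, rfl⟩ : X.map W.subtype ∈ T')
    rw [one_smul, one_smul] at e1 e2
    exact (Set.one_lt_ncard (Set.toFinite _)).2 ⟨_, e1, _, e2, fun h =>
      hXU (Subgroup.map_injective W.subtype_injective h).symm⟩
  have hlt : S.ncard < S'.ncard := by
    have : Fintype (Subgroup V) := Fintype.ofFinite _
    have hdisj : (S.toFinset : Set (Subgroup V)).PairwiseDisjoint fun W' => (D W').toFinset := by
      intro A hA B hB hne
      rw [Function.onFun, Finset.disjoint_left]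
      intro X hXA hXB
      simp only [Set.coe_toFinset] at hA hB
      simp only [Set.mem_toFinset] at hXA hXB
      have hX0 : X ≠ ⊥ := fun h => (hDprop A hA).2.2.1 (h ▸ hXA)
      obtain ⟨x, hx, hx1⟩ : ∃ x ∈ X, x ≠ 1 := by
        by_contra! h
        exact hX0 ((Subgroup.eq_bot_iff_forall X).2 h)
      refine hne (eq_smul_of_inter hS.indep hA hB ?_ ?_ hx1)
      · exact ((le_sSup hXA).trans (hDprop A hA).2.1.le) hx
      · exact ((le_sSup hXB).trans (hDprop B hB).2.1.le) hx
    have hcard : S'.ncard = ∑ W' ∈ S.toFinset, (D W').ncard := by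
      rw [show S' = ((S.toFinset.biUnion fun W' => (D W').toFinset : Finset (Subgroup V)) : Set (Subgroup V)) by
        simp [S'], Set.ncard_coe_finset, Finset.card_biUnion hdisj]
      exact Finset.sum_congr rfl fun W' _ => (Set.ncard_eq_toFinset_card' _).symm
    rw [hcard, Set.ncard_eq_toFinset_card' S, Finset.card_eq_sum_ones]
    refine Finset.sum_lt_sum (fun W' hW' => (hDprop W' (by simpa using hW')).2.2.2) ⟨W, by simpa using hW, ?_⟩
    omega
  exact absurd (hmax S' hS') (by omega)

/-- Some vector is fixed by no conjugate of a given element of order `p` generating a normal `p`-subgroup. -/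
theorem exists_vector (hp : p ≠ 2) (hV : ¬ p ∣ Nat.card V) (L : Subgroup (MulAut V)) {a : MulAut V}
    (haL : a ∈ L) (hap : a ^ p = 1) (ha1 : a ≠ 1)
    (hpg : IsPGroup p (Subgroup.closure {c | ∃ l ∈ L, c = l * a * l⁻¹})) :
    ∃ v : V, ∀ l ∈ L, (l * a * l⁻¹) v ≠ v := by
  classical
  have : Fintype V := Fintype.ofFinite V
  have : Fintype (Subgroup V) := Fintype.ofFinite _
  set H := Subgroup.closure {c | ∃ l ∈ L, c = l * a * l⁻¹} with hH
  have hCH : ∀ l ∈ L, l * a * l⁻¹ ∈ H := fun l hl => Subgroup.subset_closure ⟨l, hl, rfl⟩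
  have hHL : H ≤ L := by
    rw [hH, Subgroup.closure_le]
    rintro _ ⟨l, hl, rfl⟩
    exact mul_mem (mul_mem hl haL) (inv_mem hl)
  have hHn : ∀ l ∈ L, ∀ h ∈ H, l * h * l⁻¹ ∈ H := by
    intro l hl h hh
    induction hh using Subgroup.closure_induction with
    | mem x hx =>
      obtain ⟨m, hm, rfl⟩ := hx
      exact Subgroup.subset_closure ⟨l * m, mul_mem hl hm, by group⟩
    | one => simp
    | mul x y _ _ hx hy =>
      rw [show l * (x * y) * l⁻¹ = (l * x * l⁻¹) * (l * y * l⁻¹) by group]
      exact mul_mem hx hy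
    | inv x _ hx =>
      rw [show l * x⁻¹ * l⁻¹ = (l * x * l⁻¹)⁻¹ by group]
      exact inv_mem hx
  have hVne : (⊤ : Subgroup V) ≠ ⊥ := by
    intro h
    apply ha1
    refine MulEquiv.ext fun v => ?_
    have : v ∈ (⊥ : Subgroup V) := h ▸ Subgroup.mem_top v
    rw [Subgroup.mem_bot.1 this, map_one, map_one]
  -- a decomposition with the largest number of members
  obtain ⟨S, hS, hmax⟩ : ∃ S, Stable L S ∧ ∀ S', Stable L S' → S'.ncard ≤ S.ncard := by
    have h0 : Stable L {(⊤ : Subgroup V)} := by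
      refine ⟨sSupIndep_singleton ⊤, sSup_singleton, fun h => hVne (Set.mem_singleton_iff.1 h).symm, ?_⟩
      rintro l - W rfl
      exact top_le_iff.1 fun v _ => ⟨l⁻¹ v, Subgroup.mem_top _, l.apply_symm_apply v⟩
    obtain ⟨S, hS, hmax⟩ := Set.exists_max_image {S | Stable L S} Set.ncard (Set.toFinite _) ⟨_, h0⟩
    exact ⟨S, hS, hmax⟩
  have hne : ∀ W ∈ S, ∃ w ∈ W, w ≠ 1 := by
    intro W hW
    by_contra! h
    exact hS.notBot ((Subgroup.eq_bot_iff_forall W).2 h ▸ hW)
  -- every conjugate of `a` fixes every block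
  have hpimg : IsPGroup p ((H.subgroupOf L).map (blockPerm hS)) :=
    (hpg.of_equiv (Subgroup.subgroupOfEquivOfLe hHL).symm).map _
  obtain ⟨T, hT⟩ := exists_free_subset hp _ rfl _ hpimg
  by_contra! hcov
  have hfixblocks : ∀ l ∈ L, ∀ W ∈ S, (l * a * l⁻¹) • W = W := by
    let pick : Subgroup V → V := fun W => if h : ∃ w ∈ W, w ≠ 1 then h.choose else 1
    have hpick : ∀ W ∈ S, pick W ∈ W ∧ pick W ≠ 1 := by
      intro W hW
      simp only [pick, dif_pos (hne W hW)]
      exact (hne W hW).choose_spec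
    let f : Subgroup V → V := fun W => if h : W ∈ S then (if (⟨W, h⟩ : S) ∈ T then pick W else 1) else 1
    have hf : ∀ W ∈ S.toFinset, f W ∈ W := by
      intro W hW
      rw [Set.mem_toFinset] at hW
      simp only [f, dif_pos hW]
      split
      · exact (hpick W hW).1
      · exact one_mem W
    obtain ⟨l, hl, hlv⟩ := hcov (∏ W ∈ S.toFinset, f W)
    set c := l * a * l⁻¹ with hc
    have hcL : c ∈ L := hHL (hCH l hl)
    have himg : ∏ W ∈ S.toFinset, c (f (c⁻¹ • W)) = ∏ W ∈ S.toFinset, c (f W) := by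
      refine Finset.prod_nbij' (fun W => c⁻¹ • W) (fun W => c • W) ?_ ?_ ?_ ?_ ?_
      · intro W hW; rw [Set.mem_toFinset] at hW ⊢; exact hS.perm _ (inv_mem hcL) W hW
      · intro W hW; rw [Set.mem_toFinset] at hW ⊢; exact hS.perm _ hcL W hW
      · intro W _; exact smul_inv_smul c W
      · intro W _; exact inv_smul_smul c W
      · intro W _; rfl
    have hg : ∀ W ∈ S.toFinset, c (f (c⁻¹ • W)) ∈ W := by
      intro W hW
      have h' : c⁻¹ • W ∈ S.toFinset := by
        rw [Set.mem_toFinset] at hW ⊢; exact hS.perm _ (inv_mem hcL) W hW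
      exact (smul_inv_smul c W).le (Subgroup.smul_mem_pointwise_smul _ c _ (hf _ h'))
    have heq := prod_eq_prod (S := S.toFinset) (by rw [Set.coe_toFinset]; exact hS.indep) hg hf
      (by rw [himg, ← map_prod]; exact hlv)
    have hiff : ∀ W : S, W ∈ T ↔ blockPerm hS ⟨c, hcL⟩ W ∈ T := by
      rintro ⟨W, hW⟩
      have h := heq (c • W) (by rw [Set.mem_toFinset]; exact hS.perm c hcL W hW)
      rw [inv_smul_smul] at h
      have hcW : c • W ∈ S := hS.perm c hcL W hW
      simp only [f, dif_pos hW, dif_pos hcW] at h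
      constructor
      · intro hWT
        by_contra hn
        rw [if_pos hWT, if_neg (show (⟨c • W, hcW⟩ : S) ∉ T from hn)] at h
        exact (hpick W hW).2 (c.injective (h.trans (map_one c).symm))
      · intro hWT
        by_contra hn
        rw [if_neg hn, if_pos (show (⟨c • W, hcW⟩ : S) ∈ T from hWT), map_one] at h
        exact (hpick _ hcW).2 h.symm
    have hperm1 : blockPerm hS ⟨c, hcL⟩ = 1 := by
      refine hT _ ⟨⟨c, hcL⟩, hCH l hl, rfl⟩ ?_
      ext W
      constructor
      · rintro ⟨U, hU, rfl⟩; exact (hiff U).1 hU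
      · intro hW
        refine ⟨(blockPerm hS ⟨c, hcL⟩)⁻¹ W, (hiff _).2 ?_, Equiv.apply_symm_apply _ W⟩
        rw [show blockPerm hS ⟨c, hcL⟩ ((blockPerm hS ⟨c, hcL⟩)⁻¹ W) = W from Equiv.apply_symm_apply _ W]
        exact hW
    intro l' hl' W hW
    have hW' : (l * l'⁻¹) • W ∈ S := hS.perm _ (mul_mem hl (inv_mem hl')) W hW
    have h := congrArg (fun e : Equiv.Perm S => (e ⟨_, hW'⟩ : Subgroup V)) hperm1
    have h' : c • (l * l'⁻¹) • W = (l * l'⁻¹) • W := h
    rw [hc, ← mul_smul, show l * a * l⁻¹ * (l * l'⁻¹) = l * l'⁻¹ * (l' * a * l'⁻¹) by group,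
      mul_smul, smul_left_cancel_iff] at h'
    exact h'
  have hHfix : ∀ W ∈ S, H ≤ MulAction.stabilizer (MulAut V) W := by
    intro W hW
    rw [hH, Subgroup.closure_le]
    rintro _ ⟨l, hl, rfl⟩
    exact hfixblocks l hl W hW
  -- a regular vector in each block
  have hblock : ∀ W, W ∈ S → ∃ w ∈ W, ∀ c ∈ H, c ^ p = 1 → c w = w → ∀ u ∈ W, c u = u := by
    intro W hW
    set H' := (H.subgroupOf (MulAction.stabilizer (MulAut V) W)).map (blockRes W) with hH'
    have hn : (L.subgroupOf (MulAction.stabilizer (MulAut V) W)).map (blockRes W) ≤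
        Subgroup.normalizer (H' : Set (MulAut W)) := by
      intro x hx
      have key : ∀ x ∈ (L.subgroupOf (MulAction.stabilizer (MulAut V) W)).map (blockRes W),
          ∀ h ∈ H', x * h * x⁻¹ ∈ H' := by
        rintro _ ⟨k, hk, rfl⟩ _ ⟨h, hh, rfl⟩
        exact ⟨k * h * k⁻¹, hHn k hk h hh, by simp only [map_mul, map_inv]⟩
      refine Subgroup.mem_normalizer_iff.2 fun h => ⟨key x hx h, fun h' => ?_⟩
      have := key x⁻¹ (inv_mem hx) _ h'
      rwa [show x⁻¹ * (x * h * x⁻¹) * x⁻¹⁻¹ = h by group] at this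
    have hp' : IsPGroup p H' := (hpg.of_equiv (Subgroup.subgroupOfEquivOfLe (hHfix W hW)).symm).map _
    have hgen : H' ≤ Subgroup.closure {x | x ∈ H' ∧ x ^ p = 1} := by
      rintro _ ⟨h, hh, rfl⟩
      obtain ⟨h, hst⟩ := h
      change h ∈ H at hh
      have key : ∀ x, x ∈ H → ∀ hx : x ∈ MulAction.stabilizer (MulAut V) W,
          blockRes W ⟨x, hx⟩ ∈ Subgroup.closure {x | x ∈ H' ∧ x ^ p = 1} := by
        intro x hxH
        induction hxH using Subgroup.closure_induction with
        | mem x hx =>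
          intro hx'
          obtain ⟨l, hl, rfl⟩ := hx
          refine Subgroup.subset_closure ⟨⟨⟨_, hx'⟩, hCH l hl, rfl⟩, ?_⟩
          rw [← map_pow, ← map_one (blockRes W)]
          congr 1
          exact Subtype.ext (by change (l * a * l⁻¹) ^ p = 1; rw [conj_pow, hap]; group)
        | one => intro hx; exact (map_one (blockRes W)).symm ▸ one_mem _
        | mul x y hx hy ihx ihy =>
          intro hxy
          have := mul_mem (ihx (hHfix W hW hx)) (ihy (hHfix W hW hy))
          rwa [← map_mul] at this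
        | inv x hx ihx =>
          intro hx'
          have := inv_mem (ihx (hHfix W hW hx))
          rwa [← map_inv] at this
      exact key h hh hst
    have hVW : ¬ p ∣ Nat.card W := fun h => hV (h.trans (Subgroup.card_subgroup_dvd_card W))
    obtain ⟨w, hw⟩ := (primitive_block hS hmax hW).exists_regular hp hVW hn hp' hgen
    refine ⟨w, w.2, fun c hc hcp hcw u hu => ?_⟩
    have h1 := hw (blockRes W ⟨c, hHfix W hW hc⟩) ⟨_, hc, rfl⟩
      (by rw [← map_pow, ← map_one (blockRes W)]; congr 1; exact Subtype.ext hcp) (Subtype.ext hcw)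
    exact congrArg (fun e : MulAut W => ((e ⟨u, hu⟩ : W) : V)) h1
  choose! g hgW hg using hblock
  obtain ⟨l, hl, hlv⟩ := hcov (∏ W ∈ S.toFinset, g W)
  set c := l * a * l⁻¹ with hc
  have hcH : c ∈ H := hCH l hl
  have hcp : c ^ p = 1 := by rw [hc, conj_pow, hap]; group
  rw [map_prod] at hlv
  have heq := prod_eq_prod (S := S.toFinset) (f := fun W => c (g W)) (g := g) (by rw [Set.coe_toFinset]; exact hS.indep)
    (fun W hW => by
      rw [Set.mem_toFinset] at hW
      exact (hfixblocks l hl W hW).le (Subgroup.smul_mem_pointwise_smul _ c W (hgW W hW)))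
    (fun W hW => hgW W (by simpa using hW)) hlv
  have hc1 : c = 1 := by
    refine MulEquiv.ext fun v => ?_
    have hle : sSup S ≤ fixed (Subgroup.zpowers c) := sSup_le fun W hW u hu =>
      mem_fixed_zpowers.2 (hg W hW c hcH hcp (heq W (by simpa using hW)) u hu)
    rw [hS.total] at hle
    exact mem_fixed_zpowers.1 (hle (Subgroup.mem_top v))
  apply ha1
  rwa [hc, conj_eq_one_iff] at hc1

end CfsgLib.PFixCover
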