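import Cfsg.Agent.Lib.PFixCover.Average

/-!
Symplectic pairs in groups of automorphisms with a fixed point free centre of order `p`.
-/

set_option autoImplicit false
open Pointwise

namespace CfsgLib.PFixCover

variable {V : Type*} [CommGroup V] [Finite V] {p : ℕ} [Fact p.Prime]

/-- A group of exponent `p` with commutators in, and centre equal to, `⟨z⟩`. -/
structure Heis (p : ℕ) (z : MulAut V) (W : Subgroup (MulAut V)) : Prop where
  mem : z ∈ W
  comm : ∀ a ∈ W, ∀ b ∈ W, a * b * a⁻¹ * b⁻¹ ∈ Subgroup.zpowers z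
  exp : ∀ a ∈ W, a ^ p = 1
  cent : ∀ a ∈ W, (∀ b ∈ W, a * b = b * a) → a ∈ Subgroup.zpowers z
  zcomm : ∀ a ∈ W, a * z = z * a

omit [Finite V] [Fact p.Prime] in
theorem conj_pow_eq {x y c : MulAut V} (hy : y * x * y⁻¹ = x * c) (hc : y * c = c * y) (t : ℕ) :
    y ^ t * x * (y ^ t)⁻¹ = x * c ^ t := by
  induction t with
  | zero => simp
  | succ t ih =>
    rw [pow_succ', mul_inv_rev]
    calc y * y ^ t * x * ((y ^ t)⁻¹ * y⁻¹) = y * (y ^ t * x * (y ^ t)⁻¹) * y⁻¹ := by group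
      _ = (y * x * y⁻¹) * (y * c ^ t * y⁻¹) := by rw [ih]; group
      _ = x * c * c ^ t := by
        rw [hy, (show Commute y c from hc).pow_right t |>.eq, mul_inv_cancel_right]
      _ = x * c ^ (t + 1) := by rw [mul_assoc, ← pow_succ']

theorem Heis.exists_partner {z x : MulAut V} {W : Subgroup (MulAut V)} (hW : Heis p z W) (hz : orderOf z = p)
    (hx : x ∈ W) (hxZ : x ∉ Subgroup.zpowers z) : ∃ y ∈ W, y * x * y⁻¹ = x * z := by
  obtain ⟨y0, hy0, hne⟩ : ∃ y0 ∈ W, x * y0 ≠ y0 * x := by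
    by_contra! h
    exact hxZ (hW.cent x hx h)
  have hmem := hW.comm y0 hy0 x hx
  rw [← mem_powers_iff_mem_zpowers] at hmem
  obtain ⟨m, hm⟩ := hmem
  have hm' : z ^ m = y0 * x * y0⁻¹ * x⁻¹ := hm
  have hzp : z ^ p = 1 := hz ▸ pow_orderOf_eq_one z
  have hmp : ¬ p ∣ m := by
    rintro ⟨j, rfl⟩
    rw [pow_mul, hzp, one_pow, eq_comm, mul_inv_eq_one, mul_inv_eq_iff_eq_mul] at hm'
    exact hne hm'.symm
  have hzc : x * z ^ m = z ^ m * x := (show Commute x z from hW.zcomm x hx).pow_right m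
  have hconj : y0 * x * y0⁻¹ = x * z ^ m := by rw [hzc, hm', inv_mul_cancel_right]
  obtain ⟨t, -, ht⟩ :=
    Nat.exists_mul_mod_eq_one_of_coprime (((Fact.out : p.Prime).coprime_iff_not_dvd.2 hmp).symm)
      (Fact.out : p.Prime).one_lt
  refine ⟨y0 ^ t, pow_mem hy0 t, ?_⟩
  rw [conj_pow_eq hconj ((show Commute y0 z from hW.zcomm y0 hy0).pow_right m), ← pow_mul,
    pow_eq_pow_mod _ hzp, ht, pow_one]

theorem conj_smul_zpowers {G : Type*} [Group G] (g x : G) :
    MulAut.conj g • Subgroup.zpowers x = Subgroup.zpowers (g * x * g⁻¹) :=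
  MonoidHom.map_zpowers (MulAut.conj g).toMonoidHom x

/-- The centralizer of a symplectic pair. -/
def Rest (W : Subgroup (MulAut V)) (x y : MulAut V) : Subgroup (MulAut V) :=
  W ⊓ Subgroup.centralizer ({x, y} : Set (MulAut V))

omit [Finite V] in
theorem mem_rest {W : Subgroup (MulAut V)} {x y w : MulAut V} :
    w ∈ Rest W x y ↔ w ∈ W ∧ w * x = x * w ∧ w * y = y * w := by
  constructor
  · rintro ⟨h1, h2⟩
    exact ⟨h1, (Subgroup.mem_centralizer_iff.1 h2 x (Or.inl rfl)).symm,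
      (Subgroup.mem_centralizer_iff.1 h2 y (Or.inr rfl)).symm⟩
  · rintro ⟨h1, h2, h3⟩
    refine ⟨h1, Subgroup.mem_centralizer_iff.2 ?_⟩
    rintro g (rfl | rfl)
    · exact h2.symm
    · exact h3.symm

omit [Finite V] in
theorem pair_conj {z x y : MulAut V} (hzx : x * z = z * x) (hzy : y * z = z * y)
    (hy : y * x * y⁻¹ = x * z) {h : MulAut V} {a b : ℕ} (ha : h * x * h⁻¹ = x * z ^ a)
    (hb : h * y * h⁻¹ = y * z ^ b) :
    ((y ^ a * (x ^ b)⁻¹)⁻¹ * h) * x = x * ((y ^ a * (x ^ b)⁻¹)⁻¹ * h) ∧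
      ((y ^ a * (x ^ b)⁻¹)⁻¹ * h) * y = y * ((y ^ a * (x ^ b)⁻¹)⁻¹ * h) := by
  set g := y ^ a * (x ^ b)⁻¹ with hg
  have hxy : x * y * x⁻¹ = y * z⁻¹ := by
    have h0 : y * x = x * z * y := by rw [← hy]; group
    have h1 : y * x = x * y * z := by rw [h0, mul_assoc, ← hzy, ← mul_assoc]
    have h2 : x * y = y * x * z⁻¹ := by rw [h1]; group
    rw [h2, mul_assoc (y * x), (show Commute x z from hzx).inv_right.inv_left.eq.symm]
    group
  have gx : g * x * g⁻¹ = x * z ^ a := by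
    rw [← conj_pow_eq hy hzy a, hg]; group
  have gy : g * y * g⁻¹ = y * z ^ b := by
    have h1 := conj_pow_eq hxy ((show Commute x z from hzx).inv_right.eq) b
    have h2 : (x ^ b)⁻¹ * y * x ^ b = y * z ^ b := by
      have hc : Commute (x ^ b) (z ^ b) := (show Commute x z from hzx).pow_pow b b
      calc (x ^ b)⁻¹ * y * x ^ b = (x ^ b)⁻¹ * ((x ^ b * y * (x ^ b)⁻¹) * z ^ b) * x ^ b := by
            rw [h1, inv_pow, inv_mul_cancel_right]
        _ = y * ((x ^ b)⁻¹ * (z ^ b * x ^ b)) := by group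
        _ = y * z ^ b := by rw [← hc.eq, inv_mul_cancel_left]
    have hc : Commute (y ^ a) (z ^ b) := (show Commute y z from hzy).pow_pow a b
    calc g * y * g⁻¹ = y ^ a * ((x ^ b)⁻¹ * y * x ^ b) * (y ^ a)⁻¹ := by rw [hg]; group
      _ = y ^ a * y * (z ^ b * (y ^ a)⁻¹) := by rw [h2]; group
      _ = y * z ^ b := by
        rw [← hc.inv_left.eq, (Commute.pow_self y a).eq]; group
  constructor
  · have : g⁻¹ * (h * x * h⁻¹) * g = x := by rw [ha, ← gx]; group
    calc g⁻¹ * h * x = g⁻¹ * (h * x * h⁻¹) * g * (g⁻¹ * h) := by group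
      _ = x * (g⁻¹ * h) := by rw [this]
  · have : g⁻¹ * (h * y * h⁻¹) * g = y := by rw [hb, ← gy]; group
    calc g⁻¹ * h * y = g⁻¹ * (h * y * h⁻¹) * g * (g⁻¹ * h) := by group
      _ = y * (g⁻¹ * h) := by rw [this]

theorem exists_pow_of_mem {z c : MulAut V} (hc : c ∈ Subgroup.zpowers z) : ∃ a : ℕ, c = z ^ a := by
  rw [← mem_powers_iff_mem_zpowers] at hc
  obtain ⟨a, ha⟩ := hc
  exact ⟨a, ha.symm⟩

/-- Correcting an element by the pair. -/
theorem exists_pair_fix {z x y h : MulAut V} {W : Subgroup (MulAut V)} (hW : Heis p z W) (hx : x ∈ W)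
    (hy : y ∈ W) (hyx : y * x * y⁻¹ = x * z) (h1 : h * x * h⁻¹ * x⁻¹ ∈ Subgroup.zpowers z)
    (h2 : h * y * h⁻¹ * y⁻¹ ∈ Subgroup.zpowers z) :
    ∃ g ∈ W, (g⁻¹ * h) * x = x * (g⁻¹ * h) ∧ (g⁻¹ * h) * y = y * (g⁻¹ * h) := by
  obtain ⟨a, ha⟩ := exists_pow_of_mem h1
  obtain ⟨b, hb⟩ := exists_pow_of_mem h2
  rw [mul_inv_eq_iff_eq_mul] at ha hb
  rw [← (show Commute x z from hW.zcomm x hx).pow_right a |>.eq] at ha
  rw [← (show Commute y z from hW.zcomm y hy).pow_right b |>.eq] at hb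
  exact ⟨y ^ a * (x ^ b)⁻¹, mul_mem (pow_mem hy a) (inv_mem (pow_mem hx b)),
    pair_conj (hW.zcomm x hx) (hW.zcomm y hy) hyx ha hb⟩

theorem Heis.rest {z x y : MulAut V} {W : Subgroup (MulAut V)} (hW : Heis p z W) (hx : x ∈ W)
    (hy : y ∈ W) (hyx : y * x * y⁻¹ = x * z) : Heis p z (Rest W x y) := by
  refine ⟨mem_rest.2 ⟨hW.mem, (hW.zcomm x hx).symm, (hW.zcomm y hy).symm⟩,
    fun a ha b hb => hW.comm a (mem_rest.1 ha).1 b (mem_rest.1 hb).1, fun a ha => hW.exp a (mem_rest.1 ha).1,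
    fun a ha hc => hW.cent a (mem_rest.1 ha).1 fun b hb => ?_, fun a ha => hW.zcomm a (mem_rest.1 ha).1⟩
  obtain ⟨g, hg, hgx, hgy⟩ := exists_pair_fix hW hx hy hyx (hW.comm b hb x hx) (hW.comm b hb y hy)
  have hb' : g⁻¹ * b ∈ Rest W x y := mem_rest.2 ⟨mul_mem (inv_mem hg) hb, hgx, hgy⟩
  obtain ⟨a', ha'⟩ := exists_pow_of_mem (hW.comm b hb x hx)
  obtain ⟨b', hb''⟩ := exists_pow_of_mem (hW.comm b hb y hy)
  rw [mul_inv_eq_iff_eq_mul, ← ((show Commute x z from hW.zcomm x hx).pow_right a').eq] at ha'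
  rw [mul_inv_eq_iff_eq_mul, ← ((show Commute y z from hW.zcomm y hy).pow_right b').eq] at hb''
  have h := pair_conj (hW.zcomm x hx) (hW.zcomm y hy) hyx ha' hb''
  have hmem : (y ^ a' * (x ^ b')⁻¹)⁻¹ * b ∈ Rest W x y :=
    mem_rest.2 ⟨mul_mem (inv_mem (mul_mem (pow_mem hy a') (inv_mem (pow_mem hx b')))) hb, h⟩
  have hac := hc _ hmem
  obtain ⟨-, hax, hay⟩ := mem_rest.1 ha
  have hg' : Commute a (y ^ a' * (x ^ b')⁻¹) :=
    ((show Commute a y from hay).pow_right a').mul_right ((show Commute a x from hax).pow_right b').inv_right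
  have := hg'.mul_right (show Commute a ((y ^ a' * (x ^ b')⁻¹)⁻¹ * b) from hac)
  rwa [mul_inv_cancel_left] at this

theorem Rest_lt {z x y : MulAut V} {W : Subgroup (MulAut V)} (hz : z ≠ 1) (hy : y ∈ W)
    (hyx : y * x * y⁻¹ = x * z) : Rest W x y < W := by
  refine lt_of_le_of_ne inf_le_left fun h => hz ?_
  have h1 : y ∈ Rest W x y := h.symm ▸ hy
  rw [(mem_rest.1 h1).2.1, mul_inv_cancel_right] at hyx
  exact mul_left_cancel (hyx.symm.trans (mul_one x).symm)

theorem Heis.card_eq {z x y : MulAut V} {W : Subgroup (MulAut V)} (hW : Heis p z W) (hz : orderOf z = p)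
    (hx : x ∈ W) (hy : y ∈ W) (hyx : y * x * y⁻¹ = x * z) :
    Nat.card W = p ^ 2 * Nat.card (Rest W x y) := by
  let f : Fin p × Fin p × Rest W x y → W := fun t =>
    ⟨y ^ (t.1 : ℕ) * (x ^ (t.2.1 : ℕ))⁻¹ * t.2.2, mul_mem
      (mul_mem (pow_mem hy _) (inv_mem (pow_mem hx _))) (mem_rest.1 t.2.2.2).1⟩
  have hzx := hW.zcomm x hx
  have hzy := hW.zcomm y hy
  have hxy : x * y * x⁻¹ = y * z⁻¹ := by
    have h0 : y * x = x * z * y := by rw [← hyx]; group
    have h1 : y * x = x * y * z := by rw [h0, mul_assoc, ← hzy, ← mul_assoc]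
    have h2 : x * y = y * x * z⁻¹ := by rw [h1]; group
    rw [h2, mul_assoc (y * x), (show Commute x z from hzx).inv_right.inv_left.eq.symm]
    group
  have hdet : ∀ t, ((f t : W) : MulAut V) * x * ((f t : W) : MulAut V)⁻¹ = x * z ^ (t.1 : ℕ) := by
    rintro ⟨a, b, w, hw⟩
    rw [← conj_pow_eq hyx hzy (a : ℕ)]
    change y ^ (a : ℕ) * (x ^ (b : ℕ))⁻¹ * w * x * (y ^ (a : ℕ) * (x ^ (b : ℕ))⁻¹ * w)⁻¹ = _
    rw [mul_assoc _ w x, (mem_rest.1 hw).2.1]
    group
  have hdet2 : ∀ t, ((f t : W) : MulAut V) * y * ((f t : W) : MulAut V)⁻¹ = y * z ^ (t.2.1 : ℕ) := by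
    rintro ⟨a, b, w, hw⟩
    change y ^ (a : ℕ) * (x ^ (b : ℕ))⁻¹ * w * y * (y ^ (a : ℕ) * (x ^ (b : ℕ))⁻¹ * w)⁻¹ = _
    have h1 := conj_pow_eq hxy ((show Commute x z from hzx).inv_right.eq) (b : ℕ)
    have hc : Commute (x ^ (b : ℕ)) (z ^ (b : ℕ)) := (show Commute x z from hzx).pow_pow _ _
    have h2 : (x ^ (b : ℕ))⁻¹ * y * x ^ (b : ℕ) = y * z ^ (b : ℕ) := by
      calc (x ^ (b : ℕ))⁻¹ * y * x ^ (b : ℕ)
          = (x ^ (b : ℕ))⁻¹ * ((x ^ (b : ℕ) * y * (x ^ (b : ℕ))⁻¹) * z ^ (b : ℕ)) * x ^ (b : ℕ) := by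
            rw [h1, inv_pow, inv_mul_cancel_right]
        _ = y * ((x ^ (b : ℕ))⁻¹ * (z ^ (b : ℕ) * x ^ (b : ℕ))) := by group
        _ = y * z ^ (b : ℕ) := by rw [← hc.eq, inv_mul_cancel_left]
    rw [mul_assoc _ w y, (mem_rest.1 hw).2.2]
    calc y ^ (a : ℕ) * (x ^ (b : ℕ))⁻¹ * (y * w) * (y ^ (a : ℕ) * (x ^ (b : ℕ))⁻¹ * w)⁻¹
        = y ^ (a : ℕ) * ((x ^ (b : ℕ))⁻¹ * y * x ^ (b : ℕ)) * (y ^ (a : ℕ))⁻¹ := by group
      _ = y ^ (a : ℕ) * y * (z ^ (b : ℕ) * (y ^ (a : ℕ))⁻¹) := by rw [h2]; group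
      _ = y * z ^ (b : ℕ) := by
        rw [← ((show Commute y z from hzy).pow_pow (a : ℕ) (b : ℕ)).inv_left.eq,
          (Commute.pow_self y (a : ℕ)).eq]
        group
  have hinjz : ∀ a b : Fin p, z ^ (a : ℕ) = z ^ (b : ℕ) → a = b := fun a b h =>
    Fin.ext (pow_injOn_Iio_orderOf (by rw [hz]; exact a.2) (by rw [hz]; exact b.2) h)
  have hbij : Function.Bijective f := by
    constructor
    · intro t t' h
      have e1 : t.1 = t'.1 := hinjz _ _ (mul_left_cancel ((hdet t).symm.trans (h ▸ hdet t')))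
      have e2 : t.2.1 = t'.2.1 := hinjz _ _ (mul_left_cancel ((hdet2 t).symm.trans (h ▸ hdet2 t')))
      have h' : y ^ (t.1 : ℕ) * (x ^ (t.2.1 : ℕ))⁻¹ * (t.2.2 : MulAut V) =
          y ^ (t'.1 : ℕ) * (x ^ (t'.2.1 : ℕ))⁻¹ * (t'.2.2 : MulAut V) := congrArg Subtype.val h
      rw [e1, e2, mul_left_cancel_iff] at h'
      exact Prod.ext e1 (Prod.ext e2 (Subtype.ext h'))
    · rintro ⟨b, hb⟩
      obtain ⟨a', ha'⟩ := exists_pow_of_mem (hW.comm b hb x hx)
      obtain ⟨b', hb''⟩ := exists_pow_of_mem (hW.comm b hb y hy)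
      rw [mul_inv_eq_iff_eq_mul, ← ((show Commute x z from hzx).pow_right a').eq] at ha'
      rw [mul_inv_eq_iff_eq_mul, ← ((show Commute y z from hzy).pow_right b').eq] at hb''
      rw [pow_eq_pow_mod a' (hz ▸ pow_orderOf_eq_one z)] at ha'
      rw [pow_eq_pow_mod b' (hz ▸ pow_orderOf_eq_one z)] at hb''
      have h := pair_conj hzx hzy hyx ha' hb''
      refine ⟨⟨⟨a' % p, Nat.mod_lt _ (Fact.out : p.Prime).pos⟩, ⟨b' % p, Nat.mod_lt _ (Fact.out : p.Prime).pos⟩,
        _, mem_rest.2 ⟨mul_mem (inv_mem (mul_mem (pow_mem hy _) (inv_mem (pow_mem hx _)))) hb, h⟩⟩, ?_⟩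
      exact Subtype.ext (mul_inv_cancel_left (y ^ (a' % p) * (x ^ (b' % p))⁻¹) b)
  have := Nat.card_congr (Equiv.ofBijective f hbij)
  rw [← this, Nat.card_prod, Nat.card_prod, Nat.card_fin]
  ring

/-- An element inducing commutators in `⟨z⟩` agrees with an element of `W` on `W`. -/
theorem Heis.exists_approx {z : MulAut V} (hz : orderOf z = p) {W : Subgroup (MulAut V)} (hW : Heis p z W)
    {h : MulAut V} (hhz : h * z = z * h) (hh : ∀ w ∈ W, h * w * h⁻¹ * w⁻¹ ∈ Subgroup.zpowers z) :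
    ∃ w ∈ W, ∀ b ∈ W, (w⁻¹ * h) * b = b * (w⁻¹ * h) := by
  induction W using (wellFounded_lt (α := Subgroup (MulAut V))).induction generalizing h with
  | h W ih =>
  by_cases hWZ : W ≤ Subgroup.zpowers z
  · refine ⟨1, one_mem W, fun b hb => ?_⟩
    obtain ⟨k, rfl⟩ := Subgroup.mem_zpowers_iff.1 (hWZ hb)
    rw [inv_one, one_mul]
    exact (show Commute h z from hhz).zpow_right k
  obtain ⟨x, hx, hxZ⟩ := SetLike.not_le_iff_exists.1 hWZ
  obtain ⟨y, hy, hyx⟩ := hW.exists_partner hz hx hxZ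
  obtain ⟨g, hg, hgx, hgy⟩ := exists_pair_fix hW hx hy hyx (hh x hx) (hh y hy)
  have hz1 : z ≠ 1 := fun e => (Fact.out : p.Prime).ne_one (by rw [← hz, e, orderOf_one])
  have hW0 := hW.rest hx hy hyx
  obtain ⟨w, hw, hwc⟩ := ih (Rest W x y) (Rest_lt hz1 hy hyx) hW0 (h := g⁻¹ * h)
    (by
      have hgz : Commute g z := hW.zcomm g hg
      exact hgz.inv_left.mul_left hhz)
    (fun b hb => by
      have hbW := (mem_rest.1 hb).1
      have h1 : g⁻¹ * h * b * (g⁻¹ * h)⁻¹ * b⁻¹ =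
          (g⁻¹ * (h * b * h⁻¹ * b⁻¹) * g) * (g⁻¹ * b * g * b⁻¹) := by group
      rw [h1]
      refine mul_mem ?_ ?_
      · obtain ⟨k, hk⟩ := Subgroup.mem_zpowers_iff.1 (hh b hbW)
        rw [← hk, mul_assoc, ← ((show Commute g z from hW.zcomm g hg).zpow_right k).eq, inv_mul_cancel_left]
        exact Subgroup.zpow_mem_zpowers z k
      · simpa using hW.comm g⁻¹ (inv_mem hg) b hbW)
  obtain ⟨hwW, hwx, hwy⟩ := mem_rest.1 hw
  refine ⟨g * w, mul_mem hg hwW, fun b hb => ?_⟩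
  obtain ⟨g', hg', hgx', hgy'⟩ := exists_pair_fix hW hx hy hyx (hW.comm b hb x hx) (hW.comm b hb y hy)
  obtain ⟨a', ha'⟩ := exists_pow_of_mem (hW.comm b hb x hx)
  obtain ⟨b', hb''⟩ := exists_pow_of_mem (hW.comm b hb y hy)
  rw [mul_inv_eq_iff_eq_mul, ← ((show Commute x z from hW.zcomm x hx).pow_right a').eq] at ha'
  rw [mul_inv_eq_iff_eq_mul, ← ((show Commute y z from hW.zcomm y hy).pow_right b').eq] at hb''
  have hp' := pair_conj (hW.zcomm x hx) (hW.zcomm y hy) hyx ha' hb''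
  have hmem : (y ^ a' * (x ^ b')⁻¹)⁻¹ * b ∈ Rest W x y :=
    mem_rest.2 ⟨mul_mem (inv_mem (mul_mem (pow_mem hy a') (inv_mem (pow_mem hx b')))) hb, hp'⟩
  rw [show (g * w)⁻¹ * h = w⁻¹ * (g⁻¹ * h) by group]
  have cx : Commute (w⁻¹ * (g⁻¹ * h)) x := (show Commute w x from hwx).inv_left.mul_left hgx
  have cy : Commute (w⁻¹ * (g⁻¹ * h)) y := (show Commute w y from hwy).inv_left.mul_left hgy
  have := ((cy.pow_right a').mul_right (cx.pow_right b').inv_right).mul_right (hwc _ hmem)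
  rwa [mul_inv_cancel_left] at this

/-- The fixed spaces of the conjugates of a noncentral element are independent. -/
theorem card_fixed_pow_le (hV : ¬ p ∣ Nat.card V) {z x y : MulAut V} (hz : orderOf z = p)
    (hfpf : fixed (Subgroup.zpowers z) = ⊥) (hxp : x ^ p = 1) (hxz : x * z = z * x) (hyz : y * z = z * y)
    (hyx : y * x * y⁻¹ = x * z) (X : Subgroup V) (hXy : y • X = X) :
    Nat.card (X ⊓ fixed (Subgroup.zpowers x) : Subgroup V) ^ p ≤ Nat.card X := by
  classical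
  have hzp : z ^ p = 1 := hz ▸ pow_orderOf_eq_one z
  have hxiz : ∀ i : ℕ, (x * z ^ i) ^ p = 1 := fun i => by
    rw [((show Commute x z from hxz).pow_right i).mul_pow, hxp, ← pow_mul, mul_comm, pow_mul, hzp, one_pow, one_mul]
  let C : Fin p → Subgroup V := fun i => X ⊓ fixed (Subgroup.zpowers (x * z ^ (i : ℕ)))
  have hcard : ∀ i, Nat.card (C i) = Nat.card (X ⊓ fixed (Subgroup.zpowers x) : Subgroup V) := by
    intro i
    have h : y ^ (i : ℕ) • (X ⊓ fixed (Subgroup.zpowers x)) = C i := by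
      rw [Subgroup.smul_inf, conj_fixed]
      congr 1
      · have hst : y ^ (i : ℕ) ∈ MulAction.stabilizer (MulAut V) X := pow_mem hXy _
        exact hst
      · congr 1
        rw [conj_smul_zpowers]
        congr 1
        exact conj_pow_eq hyx hyz i
    rw [← h]
    exact (Nat.card_congr (Subgroup.equivSMul (y ^ (i : ℕ)) _).toEquiv).symm
  let f : (∀ i, C i) → X := fun u => ⟨∏ i, (u i : V), prod_mem fun i _ => (u i).2.1⟩
  have hf : Function.Injective f := by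
    intro u v huv
    funext j
    have hker : ∀ i : Fin p, i ≠ j → ∀ w ∈ C i, avgOne p (x * z ^ (j : ℕ)) w = 1 := by
      intro i hij w hw
      have hwi : (x * z ^ (i : ℕ)) w = w := mem_fixed_zpowers.1 hw.2
      have hfix : ∀ k : ℕ, ((x * z ^ (i : ℕ)) ^ k) w = w := by
        intro k
        induction k with
        | zero => rfl
        | succ k ih => rw [pow_succ, MulAut.mul_apply, hwi, ih]
      set d := (z ^ (i : ℕ))⁻¹ * z ^ (j : ℕ) with hd
      have hxd : x * z ^ (j : ℕ) = x * z ^ (i : ℕ) * d := by rw [hd]; group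
      have hcomm : Commute (x * z ^ (i : ℕ)) d := by
        have c1 : ∀ m n : ℕ, Commute (x * z ^ m) (z ^ n) := fun m n =>
          ((show Commute x z from hxz).pow_right n).mul_left (Commute.pow_pow_self z m n)
        exact (c1 _ _).inv_right.mul_right (c1 _ _)
      have hdp : d ^ p = 1 := by
        rw [hd, ((Commute.pow_pow_self z _ _).inv_left).mul_pow, inv_pow, ← pow_mul, ← pow_mul, mul_comm _ p,
          mul_comm _ p, pow_mul, pow_mul, hzp, one_pow, one_pow, inv_one, one_mul]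
      have hd1 : d ≠ 1 := fun h => hij (Fin.ext (pow_injOn_Iio_orderOf (by rw [hz]; exact i.2)
        (by rw [hz]; exact j.2) (inv_mul_eq_one.1 h)))
      have hdfpf : fixed (Subgroup.zpowers d) = ⊥ := by
        have : Subgroup.zpowers d = Subgroup.zpowers z := by
          have hz' : d ∈ Subgroup.zpowers z :=
            mul_mem (inv_mem (Subgroup.npow_mem_zpowers z _)) (Subgroup.npow_mem_zpowers z _)
          refine Subgroup.eq_of_le_of_card_ge (Subgroup.zpowers_le.2 hz') ?_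
          rw [Nat.card_zpowers, Nat.card_zpowers, hz, orderOf_eq_prime hdp hd1]
        rw [this, hfpf]
      rw [← avgOne_eq_one hdp hdfpf w, avgOne, avgOne]
      refine Finset.prod_congr rfl fun k _ => ?_
      have hwk : ((x * z ^ (i : ℕ)) ^ k) ((d ^ k) w) = (d ^ k) w := by
        rw [← MulAut.mul_apply, (hcomm.pow_pow k k).eq, MulAut.mul_apply, hfix]
      rw [hxd, hcomm.mul_pow, MulAut.mul_apply, hwk]
    have hprod : ∀ t : ∀ i, C i, avgOne p (x * z ^ (j : ℕ)) (∏ i, (t i : V)) = (t j : V) ^ p := by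
      intro t
      have hhom : ∀ w, avgOne p (x * z ^ (j : ℕ)) w =
          (∏ k ∈ Finset.range p, ((x * z ^ (j : ℕ)) ^ k).toMonoidHom : V →* V) w := by
        intro w; simp [avgOne, MonoidHom.finsetProd_apply]
      rw [hhom, map_prod, Finset.prod_eq_single j]
      · rw [← hhom]; exact avgOne_of_fixed (mem_fixed_zpowers.1 (t j).2.2)
      · intro i _ hij; rw [← hhom]; exact hker i hij _ (t i).2
      · simp
    have h := congrArg (fun w : X => avgOne p (x * z ^ (j : ℕ)) (w : V)) huv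
    simp only [f, hprod] at h
    have h2 : ((u j : V) * (v j : V)⁻¹) ^ p ^ 1 = 1 := by rw [pow_one, mul_pow, inv_pow, h, mul_inv_cancel]
    exact Subtype.ext (mul_inv_eq_one.1 (eq_one_of_pow hV h2))
  have := Nat.card_le_card_of_injective f hf
  rw [Nat.card_pi, Finset.prod_congr rfl (fun i _ => hcard i), Finset.prod_const, Finset.card_univ,
    Fintype.card_fin] at this
  exact this

/-- The size of a faithful module. -/
theorem Heis.card_bound (hV : ¬ p ∣ Nat.card V) {z : MulAut V} (hz : orderOf z = p)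
    (hfpf : fixed (Subgroup.zpowers z) = ⊥) {W : Subgroup (MulAut V)} (hW : Heis p z W)
    (X : Subgroup V) (hX : X ≠ ⊥) (hXW : ∀ w ∈ W, w • X = X) :
    ∃ n, Nat.card W = p ^ (2 * n + 1) ∧ (p + 1) ^ p ^ n ≤ Nat.card X := by
  induction W using (wellFounded_lt (α := Subgroup (MulAut V))).induction generalizing X with
  | h W ih =>
  by_cases hWZ : W ≤ Subgroup.zpowers z
  · refine ⟨0, ?_, ?_⟩
    · rw [show W = Subgroup.zpowers z from le_antisymm hWZ (Subgroup.zpowers_le.2 hW.mem), Nat.card_zpowers, hz,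
        mul_zero, zero_add, pow_one]
    · rw [pow_zero, pow_one]
      let _ : MulAction (Subgroup.zpowers z) X :=
        { smul := fun a v => ⟨(a : MulAut V) v.1, by
            exact (hXW a.1 (Subgroup.zpowers_le.2 hW.mem a.2)).le
              (Subgroup.smul_mem_pointwise_smul v.1 a.1 X v.2)⟩
          one_smul := fun v => Subtype.ext rfl
          mul_smul := fun a b v => Subtype.ext rfl }
      have hp : IsPGroup p (Subgroup.zpowers z) :=
        IsPGroup.of_card (n := 1) (by rw [Nat.card_zpowers, hz, pow_one])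
      have hmod := hp.card_modEq_card_fixedPoints X
      have hone : MulAction.fixedPoints (Subgroup.zpowers z) X = {1} := by
        ext v
        simp only [MulAction.mem_fixedPoints, Set.mem_singleton_iff]
        constructor
        · intro h
          have h1 : z (v : V) = v := congrArg Subtype.val (h ⟨z, Subgroup.mem_zpowers z⟩)
          have h2 : (v : V) ∈ fixed (Subgroup.zpowers z) := mem_fixed_zpowers.2 h1
          rw [hfpf, Subgroup.mem_bot] at h2
          exact Subtype.ext h2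
        · rintro rfl a
          exact Subtype.ext (map_one (a : MulAut V))
      rw [Nat.card_coe_set_eq, hone, Set.ncard_singleton] at hmod
      have h2 : 1 < Nat.card X := (Subgroup.one_lt_card_iff_ne_bot X).2 hX
      by_contra hlt
      have hle : Nat.card X ≤ p := by omega
      rcases Nat.eq_or_lt_of_le hle with h | h
      · rw [h, Nat.ModEq, Nat.mod_self, Nat.mod_eq_of_lt (Fact.out : p.Prime).one_lt] at hmod
        omega
      · rw [Nat.ModEq, Nat.mod_eq_of_lt h, Nat.mod_eq_of_lt (Fact.out : p.Prime).one_lt] at hmod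
        omega
  obtain ⟨x, hx, hxZ⟩ := SetLike.not_le_iff_exists.1 hWZ
  -- a translate of `x` with a nonzero fixed point
  obtain ⟨i, hi⟩ : ∃ i : ℕ, X ⊓ fixed (Subgroup.zpowers (x * z ^ i)) ≠ ⊥ := by
    by_contra! hc
    apply hX
    refine (Subgroup.eq_bot_iff_forall X).2 fun v hv => ?_
    have hzp : z ^ p = 1 := hz ▸ pow_orderOf_eq_one z
    have hxiz : ∀ i : ℕ, (x * z ^ i) ^ p = 1 := fun i => hW.exp _ (mul_mem hx (pow_mem hW.mem i))
    have h1 : ∏ i ∈ Finset.range p, avgOne p (x * z ^ i) v = 1 := Finset.prod_eq_one fun i _ => by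
      have hmem : avgOne p (x * z ^ i) v ∈ X ⊓ fixed (Subgroup.zpowers (x * z ^ i)) := by
        refine ⟨prod_mem fun k _ => ?_, mem_fixed_zpowers.2 (apply_avgOne (hxiz i) v)⟩
        rw [← hXW _ (pow_mem (mul_mem hx (pow_mem hW.mem i)) k)]
        exact Subgroup.smul_mem_pointwise_smul v _ X hv
      rwa [hc i, Subgroup.mem_bot] at hmem
    rw [avg_identity (show Commute x z from hW.zcomm x hx) hzp, avgOne_eq_one hzp hfpf,
      Finset.prod_eq_one (fun k _ => map_one _), mul_one] at h1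
    exact eq_one_of_pow hV (k := 1) (by rwa [pow_one])
  obtain ⟨x, hx, hxZ, hXx⟩ : ∃ x' ∈ W, x' ∉ Subgroup.zpowers z ∧ X ⊓ fixed (Subgroup.zpowers x') ≠ ⊥ := by
    refine ⟨x * z ^ i, mul_mem hx (pow_mem hW.mem i), fun h => hxZ ?_, hi⟩
    have := mul_mem h (inv_mem (Subgroup.npow_mem_zpowers z i))
    rwa [mul_inv_cancel_right] at this
  obtain ⟨y, hy, hyx⟩ := hW.exists_partner hz hx hxZ
  have hz1 : z ≠ 1 := fun e => (Fact.out : p.Prime).ne_one (by rw [← hz, e, orderOf_one])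
  obtain ⟨n, hn, hle⟩ := ih (Rest W x y) (Rest_lt hz1 hy hyx) (hW.rest hx hy hyx) _ hXx fun w hw => by
    obtain ⟨hwW, hwx, -⟩ := mem_rest.1 hw
    rw [Subgroup.smul_inf, hXW w hwW, conj_fixed]
    congr 2
    rw [conj_smul_zpowers, hwx, mul_inv_cancel_right]
  refine ⟨n + 1, ?_, ?_⟩
  · rw [hW.card_eq hz hx hy hyx, hn, ← pow_add]; congr 1; omega
  · refine le_trans ?_ (card_fixed_pow_le hV hz hfpf (hW.exp x hx) (hW.zcomm x hx) (hW.zcomm y hy) hyx X
      (hXW y hy))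
    rw [pow_succ, pow_mul]
    exact Nat.pow_le_pow_left hle p

end CfsgLib.PFixCover
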