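import Cfsg.Agent.Lib.PFixCover.Pairs
import Cfsg.Agent.Lib.PGroup.OmegaRankTwo

/-!
A normal `p`-subgroup, `p` odd, of a primitive coprime group of automorphisms of an abelian group.
-/

set_option autoImplicit false
open Pointwise

namespace CfsgLib.PFixCover

variable {V : Type*} [CommGroup V] [Finite V] {p : ℕ} [Fact p.Prime]

omit [Fact p.Prime] in
theorem Primitive.fixed_eq_bot {L : Subgroup (MulAut V)} (hprim : Primitive L) (hV : ¬ p ∣ Nat.card V)
    [Fact p.Prime] {E : Subgroup (MulAut V)} (hE : IsPGroup p E) (hne : E ≠ ⊥)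
    (hLE : L ≤ Subgroup.normalizer (E : Set (MulAut V))) : fixed E = ⊥ := by
  have : Fintype E := Fintype.ofFinite E
  obtain ⟨k, hk⟩ := IsPGroup.iff_card.1 hE
  by_contra hC
  by_cases hK : (avg E).ker = ⊥
  · -- `E` acts trivially
    apply hne
    refine (Subgroup.eq_bot_iff_forall E).2 fun e he => MulEquiv.ext fun v => ?_
    have hinj : Function.Injective (avg E) := (MonoidHom.ker_eq_bot_iff _).1 hK
    change e v = v
    refine hinj ?_
    rw [avg_conj (Subgroup.le_normalizer he) v]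
    exact avg_mem_fixed E v e he
  have hdisj : Disjoint (fixed E) (avg E).ker := by
    rw [Subgroup.disjoint_def]
    intro v hv hv'
    rw [MonoidHom.mem_ker, avg_of_fixed E hv, hk] at hv'
    exact eq_one_of_pow hV hv'
  have hne' : fixed E ≠ (avg E).ker := fun h => hC (by rw [h] at hdisj ⊢; exact disjoint_self.1 hdisj)
  have hcop : (Nat.card V).Coprime (Nat.card E) := by
    rw [hk]
    exact Nat.Coprime.pow_right k ((Fact.out : p.Prime).coprime_iff_not_dvd.2 hV).symm
  have htop : fixed E ⊔ (avg E).ker = ⊤ := by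
    rw [eq_top_iff]
    intro v _
    have hc : (powCoprime hcop).symm (avg E v) ∈ fixed E := zpow_mem (avg_mem_fixed E v) _
    have h1 : avg E (((powCoprime hcop).symm (avg E v))⁻¹ * v) = 1 := by
      rw [map_mul, map_inv, avg_of_fixed E hc]
      rw [show ((powCoprime hcop).symm (avg E v)) ^ Nat.card E = avg E v from
        (powCoprime hcop).apply_symm_apply (avg E v), inv_mul_cancel]
    have := Subgroup.mul_mem_sup hc (MonoidHom.mem_ker.2 h1)
    rwa [mul_inv_cancel_left] at this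
  have hperm : ∀ l ∈ L, l • fixed E = fixed E ∧ l • (avg E).ker = (avg E).ker := by
    intro l hl
    refine ⟨by rw [conj_fixed]; exact congrArg fixed (Subgroup.mem_normalizer_iff_map_conj_eq.1 (hLE hl)), ?_⟩
    ext v
    rw [mem_smul_iff]
    constructor
    · rintro ⟨w, hw, rfl⟩
      rw [MonoidHom.mem_ker, avg_conj (hLE hl), MonoidHom.mem_ker.1 hw, map_one]
    · intro hv
      refine ⟨l⁻¹ v, MonoidHom.mem_ker.2 ?_, l.apply_symm_apply v⟩
      rw [avg_conj (inv_mem (hLE hl)), MonoidHom.mem_ker.1 hv, map_one]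
  have hS : Stable L {fixed E, (avg E).ker} := by
    refine ⟨(sSupIndep_pair hne').2 hdisj, by rw [sSup_pair, htop], ?_, ?_⟩
    · rintro (h | h)
      · exact hC h.symm
      · exact hK h.symm
    · rintro l hl W (rfl | rfl)
      · exact Or.inl (hperm l hl).1
      · exact Or.inr (hperm l hl).2
  exact hne' ((hprim _ hS _ (Or.inl rfl)).trans (hprim _ hS _ (Or.inr rfl)).symm)

theorem Primitive.card_elementary_le {L : Subgroup (MulAut V)} (hprim : Primitive L) (hV : ¬ p ∣ Nat.card V)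
    {E : Subgroup (MulAut V)} (hcomm : ∀ a ∈ E, ∀ b ∈ E, a * b = b * a) (hEp : ∀ a ∈ E, a ^ p = 1)
    (hLE : L ≤ Subgroup.normalizer (E : Set (MulAut V))) : Nat.card E ≤ p := by
  rcases eq_or_ne E ⊥ with hne | hne
  · rw [hne, Subgroup.card_bot]; exact (Fact.out : p.Prime).one_lt.le
  have hEpg : IsPGroup p E := fun a => ⟨1, Subtype.ext (by rw [pow_one]; exact hEp a a.2)⟩
  have hC := hprim.fixed_eq_bot hV hEpg hne hLE
  let Q : Subgroup (MulAut V) → Prop := fun B => B ≤ E ∧ ∃ e ∈ E, E ≤ B ⊔ Subgroup.zpowers e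
  let S : Set (Subgroup V) := {U | U ≠ ⊥ ∧ ∃ B, Q B ∧ U = fixed B}
  have hspan : sSup S = ⊤ := span_fixed hV E hcomm hEp _ fun B hB hQ => by
    by_cases h : fixed B = ⊥
    · rw [h]; exact bot_le
    · exact le_sSup ⟨h, B, ⟨hB, hQ⟩, rfl⟩
  -- two different members are fixed by `E` together
  have hsup : ∀ B B', Q B → Q B' → B ≠ B' → fixed B ≠ ⊥ → fixed B' ≠ ⊥ → B ⊔ B' = E := by
    intro B B' hB hB' hne' hf hf'
    have hmax : ∀ B, Q B → fixed B ≠ ⊥ → ∀ D, B < D → D ≤ E → D = E := by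
      intro B ⟨hBE, e, he, hle⟩ hf D hBD hDE
      obtain ⟨d, hd, hdB⟩ := SetLike.exists_of_lt hBD
      refine le_antisymm hDE (hle.trans (sup_le hBD.le (Subgroup.zpowers_le.2 ?_)))
      have hBn : (B.subgroupOf E).Normal := by
        refine ⟨fun a ha g => ?_⟩
        rw [Subgroup.mem_subgroupOf] at ha ⊢
        rw [Subgroup.coe_mul, Subgroup.coe_mul, Subgroup.coe_inv, hcomm g g.2 a a.2, mul_inv_cancel_right]
        exact ha
      have hN : Subgroup.zpowers e ≤ Subgroup.normalizer (B : Set (MulAut V)) :=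
        fun a ha => Subgroup.le_normalizer_of_normal_subgroupOf hBE (Subgroup.zpowers_le.2 he ha)
      have h1 : d ∈ ((B ⊔ Subgroup.zpowers e : Subgroup (MulAut V)) : Set (MulAut V)) := hle (hDE hd)
      rw [Subgroup.coe_mul_of_right_le_normalizer_left _ _ hN] at h1
      obtain ⟨b, hb, c, hc, hbc⟩ := h1
      have hcD : c ∈ D := by
        have hbc' : b * c = d := hbc
        have := mul_mem (inv_mem (hBD.le hb)) hd
        rwa [← hbc', inv_mul_cancel_left] at this
      obtain ⟨k, hk⟩ := Subgroup.mem_zpowers_iff.1 hc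
      have hkp : ¬ (p : ℤ) ∣ k := by
        rintro ⟨j, rfl⟩
        apply hdB
        have hbc' : b * c = d := hbc
        rw [← hk, zpow_mul, zpow_natCast, hEp e he, one_zpow, mul_one] at hbc'
        exact hbc' ▸ hb
      have hcop : IsCoprime (p : ℤ) k := (Nat.prime_iff_prime_int.1 Fact.out).coprime_iff_not_dvd.2 hkp
      obtain ⟨u, v, huv⟩ := hcop
      have : e = c ^ v := by
        rw [← hk, ← zpow_mul]
        calc e = e ^ (u * (p : ℤ) + v * k) := by rw [huv, zpow_one]
          _ = e ^ (k * v) := by rw [zpow_add, mul_comm u, zpow_mul, zpow_natCast, hEp e he, one_zpow, one_mul, mul_comm]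
      rw [this]
      exact zpow_mem hcD v
    by_contra hc
    rcases eq_or_ne B (B ⊔ B') with h | h
    · have hlt : B' < B := lt_of_le_of_ne (h.symm ▸ le_sup_right) (Ne.symm hne')
      have := hmax B' hB' hf' B hlt hB.1
      exact hc (by rw [← h, this])
    · exact hc (hmax B hB hf _ (lt_of_le_of_ne le_sup_left h) (sup_le hB.1 hB'.1))
  have hindep : sSupIndep S := by
    rintro _ ⟨hU, B, hB, rfl⟩
    have : Fintype B := Fintype.ofFinite B
    rw [Subgroup.disjoint_def]
    intro v hv hv'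
    have hle : sSup (S \ {fixed B}) ≤ (avg B).ker := by
      refine sSup_le ?_
      rintro _ ⟨⟨hU', B', hB', rfl⟩, hne'⟩ w hw
      rw [MonoidHom.mem_ker, ← Subgroup.mem_bot, ← hC,
        ← hsup B B' hB hB' (fun h => hne' (by simp [h])) hU hU']
      refine mem_fixed_sup (avg_mem_fixed B w) fun b hb => ?_
      rw [← avg_conj ?_ w, hw b hb]
      refine Subgroup.mem_normalizer_iff.2 fun a => ⟨fun ha => ?_, fun ha => ?_⟩
      · rw [hcomm b (hB'.1 hb) a (hB.1 ha), mul_inv_cancel_right]; exact ha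
      · have h2 := hcomm b⁻¹ (inv_mem (hB'.1 hb)) _ (hB.1 ha)
        have h3 : b⁻¹ * (b * a * b⁻¹) * b = a := by group
        rw [h2, inv_mul_cancel_right] at h3
        exact h3 ▸ ha
    have h1 := MonoidHom.mem_ker.1 (hle hv')
    rw [avg_of_fixed B hv] at h1
    obtain ⟨k, hk⟩ := IsPGroup.iff_card.1 (hEpg.to_le hB.1)
    rw [hk] at h1
    exact eq_one_of_pow hV h1
  have hS : Stable L S := ⟨hindep, hspan, fun h => h.1 rfl, by
    rintro l hl _ ⟨hU, B, ⟨hB, e, he, hle⟩, rfl⟩
    have hEeq : MulAut.conj l • E = E := Subgroup.mem_normalizer_iff_map_conj_eq.1 (hLE hl)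
    refine ⟨fun h => hU ?_, MulAut.conj l • B, ⟨?_, l * e * l⁻¹, ?_, ?_⟩, conj_fixed l B⟩
    · rw [← inv_smul_smul l (fixed B), h]; exact Subgroup.smul_bot _
    · exact hEeq ▸ Subgroup.pointwise_smul_le_pointwise_smul_iff.2 hB
    · exact (Subgroup.mem_normalizer_iff.1 (hLE hl) e).1 he
    · rw [← conj_smul_zpowers, ← Subgroup.smul_sup]
      exact hEeq ▸ Subgroup.pointwise_smul_le_pointwise_smul_iff.2 hle⟩
  obtain ⟨U, hU⟩ : S.Nonempty := by
    rw [Set.nonempty_iff_ne_empty]
    intro h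
    rw [h, sSup_empty] at hspan
    apply hne
    refine (Subgroup.eq_bot_iff_forall E).2 fun e _ => MulEquiv.ext fun v => ?_
    have : v ∈ (⊥ : Subgroup V) := hspan ▸ Subgroup.mem_top v
    rw [Subgroup.mem_bot.1 this, map_one, map_one]
  obtain ⟨-, B, ⟨-, e, he, hle⟩, rfl⟩ := id hU
  have htop := hprim S hS _ hU
  have hB : B = ⊥ := (Subgroup.eq_bot_iff_forall B).2 fun b hb => MulEquiv.ext fun v =>
    (htop ▸ Subgroup.mem_top v : v ∈ fixed B) b hb
  rw [hB, bot_sup_eq] at hle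
  refine (Nat.le_of_dvd Nat.card_pos (Subgroup.card_dvd_of_le hle)).trans ?_
  rw [Nat.card_zpowers]
  exact Nat.le_of_dvd (Fact.out : p.Prime).pos (orderOf_dvd_of_pow_eq_one (hEp e he))

omit [Finite V] in
theorem mul_pow_central {G : Type*} [Group G] {p : ℕ} (hp : p.Prime) (hp2 : p ≠ 2) {a b c : G}
    (hc : b * a = c * (a * b)) (hca : Commute c a) (hcb : Commute c b) (hcp : c ^ p = 1)
    (ha : a ^ p = 1) (hb : b ^ p = 1) : (a * b) ^ p = 1 := by
  have hswap : ∀ n : ℕ, b ^ n * a = c ^ n * (a * b ^ n) := by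
    intro n
    induction n with
    | zero => simp
    | succ n ih =>
      calc b ^ (n + 1) * a = b ^ n * (b * a) := by rw [pow_succ, mul_assoc]
        _ = c * (b ^ n * a) * b := by
          rw [hc, ← mul_assoc (b ^ n) c, ← (hcb.pow_right n).eq]; group
        _ = c * (c ^ n * (a * b ^ n)) * b := by rw [ih]
        _ = c ^ (n + 1) * (a * b ^ (n + 1)) := by
          rw [pow_succ' c, pow_succ b n]; group
  have hn : ∀ n : ℕ, (a * b) ^ n = c ^ n.choose 2 * (a ^ n * b ^ n) := by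
    intro n
    induction n with
    | zero => simp
    | succ n ih =>
      calc (a * b) ^ (n + 1) = c ^ n.choose 2 * a ^ n * (b ^ n * a) * b := by rw [pow_succ, ih]; group
        _ = c ^ n.choose 2 * (a ^ n * c ^ n) * (a * b ^ n) * b := by rw [hswap]; group
        _ = c ^ n.choose 2 * c ^ n * (a ^ n * a) * (b ^ n * b) := by
          rw [← (hca.pow_pow n n).eq]; group
        _ = c ^ (n + 1).choose 2 * (a ^ (n + 1) * b ^ (n + 1)) := by
          rw [← pow_succ, ← pow_succ, ← pow_add, mul_assoc,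
            show (n + 1).choose 2 = n.choose 2 + n by rw [Nat.choose_succ_succ', Nat.choose_one_right, Nat.add_comm]]
  obtain ⟨j, hj⟩ : p ∣ p.choose 2 :=
    hp.dvd_choose_self (by norm_num) (lt_of_le_of_ne hp.two_le (Ne.symm hp2))
  rw [hn, ha, hb, hj, pow_mul, hcp, one_pow, one_mul, one_mul]

omit [Finite V] in
theorem arith_bound {p n N : ℕ} (hp : p.Prime) (hp2 : p ≠ 2) (hn : 1 ≤ n) (hN : (p + 1) ^ p ^ n ≤ N) :
    (p ^ (2 * n + 1)) ^ p < 2 ^ p * N ^ (p - 1) := by
  have h3 : 3 ≤ p := lt_of_le_of_ne hp.two_le (Ne.symm hp2)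
  have hN0 : 0 < N := lt_of_lt_of_le (pow_pos (Nat.succ_pos _) _) hN
  by_cases hc : p = 3 ∧ n = 1
  · obtain ⟨rfl, rfl⟩ := hc
    have : 64 ≤ N := by simpa using hN
    calc ((3 : ℕ) ^ (2 * 1 + 1)) ^ 3 < 2 ^ 3 * 64 ^ (3 - 1) := by norm_num
      _ ≤ _ := Nat.mul_le_mul_left _ (Nat.pow_le_pow_left this _)
  have hexp : (2 * n + 1) * p ≤ p ^ n * (p - 1) := by
    obtain ⟨m, rfl⟩ : ∃ m, n = m + 1 := ⟨n - 1, by omega⟩
    rw [pow_succ, mul_comm _ p, mul_comm (p ^ m) p, mul_assoc]
    refine Nat.mul_le_mul_left p ?_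
    rcases Nat.eq_zero_or_pos m with rfl | hm
    · have : 5 ≤ p := by
        rcases lt_or_ge p 5 with h | h
        · exfalso
          interval_cases p
          · exact hc ⟨rfl, rfl⟩
          · exact absurd hp (by decide)
        · exact h
      simp; omega
    · have key : ∀ j, 1 ≤ j → 2 * (j + 1) + 1 ≤ 2 * 3 ^ j := by
        intro j hj
        induction j with
        | zero => omega
        | succ j ih =>
          rcases Nat.eq_zero_or_pos j with rfl | h
          · norm_num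
          · have := ih h
            have := Nat.pow_le_pow_right (show 1 ≤ 3 by norm_num) h
            rw [pow_succ]; omega
      calc 2 * (m + 1) + 1 ≤ 2 * 3 ^ m := key m hm
        _ ≤ p ^ m * (p - 1) := by
          rw [mul_comm]
          exact Nat.mul_le_mul (Nat.pow_le_pow_left h3 m) (by omega)
  calc (p ^ (2 * n + 1)) ^ p = p ^ ((2 * n + 1) * p) := by rw [← pow_mul]
    _ ≤ p ^ (p ^ n * (p - 1)) := Nat.pow_le_pow_right hp.pos hexp
    _ ≤ (p + 1) ^ (p ^ n * (p - 1)) := Nat.pow_le_pow_left (Nat.le_succ p) _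
    _ = ((p + 1) ^ p ^ n) ^ (p - 1) := by rw [pow_mul]
    _ ≤ N ^ (p - 1) := Nat.pow_le_pow_left hN _
    _ < 2 ^ p * N ^ (p - 1) := lt_mul_of_one_lt_left (pow_pos hN0 _) (Nat.one_lt_two_pow hp.ne_zero)

/-- Some vector is fixed by no nontrivial element of order `p`. -/
theorem Primitive.exists_regular {L H : Subgroup (MulAut V)} (hprim : Primitive L) (hp : p ≠ 2)
    (hV : ¬ p ∣ Nat.card V) (hLH : L ≤ Subgroup.normalizer (H : Set (MulAut V))) (hH : IsPGroup p H)
    (hgen : H ≤ Subgroup.closure {x | x ∈ H ∧ x ^ p = 1}) :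
    ∃ v : V, ∀ c ∈ H, c ^ p = 1 → c v = v → c = 1 := by
  by_cases hH1 : H = ⊥
  · exact ⟨1, fun c hc _ _ => Subgroup.mem_bot.1 (hH1 ▸ hc)⟩
  have hpp : p.Prime := Fact.out
  -- the elements of order `p` in the centre
  let Z0 : Subgroup (MulAut V) :=
    { carrier := {a | a ∈ H ∧ (∀ b ∈ H, a * b = b * a) ∧ a ^ p = 1}
      one_mem' := ⟨one_mem H, fun b _ => by simp, one_pow _⟩
      mul_mem' := fun {a b} ⟨ha, hac, hap⟩ ⟨hb, hbc, hbp⟩ => ⟨mul_mem ha hb,
        fun c hc => by rw [mul_assoc, hbc c hc, ← mul_assoc, hac c hc, mul_assoc],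
        by rw [(show Commute a b from hac b hb).mul_pow, hap, hbp, mul_one]⟩
      inv_mem' := fun {a} ⟨ha, hac, hap⟩ => ⟨inv_mem ha,
        fun c hc => ((show Commute a c from hac c hc).inv_left).eq, by rw [inv_pow, hap, inv_one]⟩ }
  have hZ0n : L ≤ Subgroup.normalizer (Z0 : Set (MulAut V)) := by
    intro l hl
    have key : ∀ m ∈ Subgroup.normalizer (H : Set (MulAut V)), ∀ a ∈ Z0, m * a * m⁻¹ ∈ Z0 := by
      rintro m hm a ⟨ha, hac, hap⟩
      refine ⟨(Subgroup.mem_normalizer_iff.1 hm a).1 ha, fun b hb => ?_, by rw [conj_pow, hap]; group⟩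
      have h1 := hac _ ((Subgroup.mem_normalizer_iff''.1 hm b).1 hb)
      calc m * a * m⁻¹ * b = m * (a * (m⁻¹ * b * m)) * m⁻¹ := by group
        _ = m * ((m⁻¹ * b * m) * a) * m⁻¹ := by rw [h1]
        _ = b * (m * a * m⁻¹) := by group
    refine Subgroup.mem_normalizer_iff.2 fun a => ⟨key l (hLH hl) a, fun h => ?_⟩
    have := key l⁻¹ (inv_mem (hLH hl)) _ h
    rwa [show l⁻¹ * (l * a * l⁻¹) * l⁻¹⁻¹ = a by group] at this
  have hHn : Nontrivial H := (Subgroup.nontrivial_iff_ne_bot H).2 hH1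
  obtain ⟨z, hzH, hzc, hzp, hz1⟩ : ∃ z ∈ H, (∀ b ∈ H, z * b = b * z) ∧ z ^ p = 1 ∧ z ≠ 1 := by
    have := hH.center_nontrivial
    obtain ⟨k, hk⟩ := IsPGroup.iff_card.1 (hH.to_subgroup (Subgroup.center H))
    have hk0 : k ≠ 0 := by
      rintro rfl
      rw [pow_zero] at hk
      exact absurd hk (Finite.one_lt_card (α := Subgroup.center H)).ne'
    obtain ⟨z, hz⟩ := exists_prime_orderOf_dvd_card' p (G := Subgroup.center H) (hk ▸ dvd_pow_self p hk0)
    refine ⟨((z : H) : MulAut V), z.1.2, fun b hb => ?_, ?_, ?_⟩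
    · exact congrArg Subtype.val (Subgroup.mem_center_iff.1 z.2 ⟨b, hb⟩).symm
    · rw [← Subgroup.coe_pow, ← Subgroup.coe_pow, ← hz, pow_orderOf_eq_one]; rfl
    · intro h
      have : z = 1 := Subtype.ext (Subtype.ext h)
      rw [this, orderOf_one] at hz
      exact hpp.ne_one hz.symm
  have hzo : orderOf z = p := orderOf_eq_prime hzp hz1
  have hZ0 : Z0 = Subgroup.zpowers z := by
    refine (Subgroup.eq_of_le_of_card_ge (Subgroup.zpowers_le.2 (show z ∈ Z0 from ⟨hzH, hzc, hzp⟩)) ?_).symm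
    rw [Nat.card_zpowers, hzo]
    exact hprim.card_elementary_le hV (fun a ha b hb => ha.2.1 b hb.1) (fun a ha => ha.2.2) hZ0n
  have hzLn : L ≤ Subgroup.normalizer (Subgroup.zpowers z : Set (MulAut V)) := hZ0 ▸ hZ0n
  have hfpf : fixed (Subgroup.zpowers z) = ⊥ :=
    hprim.fixed_eq_bot hV (IsPGroup.of_card (n := 1) (by rw [Nat.card_zpowers, hzo, pow_one]))
      (Subgroup.zpowers_ne_bot.2 hz1) hzLn
  have hzcen : ∀ c ∈ Subgroup.zpowers z, ∀ b ∈ H, c * b = b * c := by
    intro c hc b hb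
    exact (hZ0.symm ▸ hc : c ∈ Z0).2.1 b hb
  -- the elements of order `p` in the second centre
  let W : Subgroup (MulAut V) :=
    { carrier := {a | a ∈ H ∧ (∀ b ∈ H, a * b * a⁻¹ * b⁻¹ ∈ Subgroup.zpowers z) ∧ a ^ p = 1}
      one_mem' := ⟨one_mem H, fun b _ => by simp, one_pow _⟩
      mul_mem' := fun {a b} ⟨ha, hac, hap⟩ ⟨hb, hbc, hbp⟩ => by
        refine ⟨mul_mem ha hb, fun c hc => ?_, ?_⟩
        · rw [show a * b * c * (a * b)⁻¹ * c⁻¹ = a * (b * c * b⁻¹ * c⁻¹) * a⁻¹ * (a * c * a⁻¹ * c⁻¹) by group,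
            ← hzcen _ (hbc c hc) a ha, mul_inv_cancel_right]
          exact mul_mem (hbc c hc) (hac c hc)
        · have hcZ : b * a * b⁻¹ * a⁻¹ ∈ Subgroup.zpowers z := hbc a ha
          refine mul_pow_central hpp hp (c := b * a * b⁻¹ * a⁻¹) (by group) (hzcen _ hcZ a ha)
            (hzcen _ hcZ b hb) ?_ hap hbp
          exact (hZ0.symm ▸ hcZ : b * a * b⁻¹ * a⁻¹ ∈ Z0).2.2
      inv_mem' := fun {a} ⟨ha, hac, hap⟩ => by
        refine ⟨inv_mem ha, fun c hc => ?_, by rw [inv_pow, hap, inv_one]⟩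
        have h1 := inv_mem (hac c hc)
        rw [show a⁻¹ * c * a⁻¹⁻¹ * c⁻¹ = a⁻¹ * (a * c * a⁻¹ * c⁻¹)⁻¹ * a by group,
          mul_assoc a⁻¹, hzcen _ h1 a ha, inv_mul_cancel_left]
        exact h1 }
  have hWH : W ≤ H := fun a ha => ha.1
  have hWn : L ≤ Subgroup.normalizer (W : Set (MulAut V)) := by
    intro l hl
    have key : ∀ m ∈ Subgroup.normalizer (H : Set (MulAut V)),
        m ∈ Subgroup.normalizer (Subgroup.zpowers z : Set (MulAut V)) → ∀ a ∈ W, m * a * m⁻¹ ∈ W := by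
      rintro m hm hmz a ⟨ha, hac, hap⟩
      refine ⟨(Subgroup.mem_normalizer_iff.1 hm a).1 ha, fun b hb => ?_, by rw [conj_pow, hap]; group⟩
      have h1 := (Subgroup.mem_normalizer_iff.1 hmz _).1 (hac _ ((Subgroup.mem_normalizer_iff''.1 hm b).1 hb))
      exact (by group : m * (a * (m⁻¹ * b * m) * a⁻¹ * (m⁻¹ * b * m)⁻¹) * m⁻¹ =
        m * a * m⁻¹ * b * (m * a * m⁻¹)⁻¹ * b⁻¹) ▸ h1
    refine Subgroup.mem_normalizer_iff.2 fun a => ⟨key l (hLH hl) (hzLn hl) a, fun h => ?_⟩
    have := key l⁻¹ (inv_mem (hLH hl)) (inv_mem (hzLn hl)) _ h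
    rwa [show l⁻¹ * (l * a * l⁻¹) * l⁻¹⁻¹ = a by group] at this
  have hzW : z ∈ W := ⟨hzH, fun b hb => by
    rw [hzc b hb, mul_inv_cancel_right, mul_inv_cancel]; exact one_mem _, hzp⟩
  let ZW : Subgroup (MulAut V) := W ⊓ Subgroup.centralizer (W : Set (MulAut V))
  have hZW : ZW = Subgroup.zpowers z := by
    refine (Subgroup.eq_of_le_of_card_ge (Subgroup.zpowers_le.2
      (show z ∈ ZW from ⟨hzW, Subgroup.mem_centralizer_iff.2 fun b hb => (hzc b (hWH hb)).symm⟩)) ?_).symm
    rw [Nat.card_zpowers, hzo]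
    refine hprim.card_elementary_le hV (fun a ha b hb => (Subgroup.mem_centralizer_iff.1 ha.2 b hb.1).symm)
      (fun a ha => ha.1.2.2) ?_
    intro l hl
    have key : ∀ m ∈ Subgroup.normalizer (W : Set (MulAut V)), ∀ a ∈ ZW, m * a * m⁻¹ ∈ ZW := by
      rintro m hm a ⟨ha, hac⟩
      refine ⟨(Subgroup.mem_normalizer_iff.1 hm a).1 ha, Subgroup.mem_centralizer_iff.2 fun b hb => ?_⟩
      have h1 := Subgroup.mem_centralizer_iff.1 hac _ ((Subgroup.mem_normalizer_iff''.1 hm b).1 hb)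
      calc b * (m * a * m⁻¹) = m * ((m⁻¹ * b * m) * a) * m⁻¹ := by group
        _ = m * (a * (m⁻¹ * b * m)) * m⁻¹ := by rw [h1]
        _ = m * a * m⁻¹ * b := by group
    refine Subgroup.mem_normalizer_iff.2 fun a => ⟨key l (hWn hl) a, fun h => ?_⟩
    have := key l⁻¹ (inv_mem (hWn hl)) _ h
    rwa [show l⁻¹ * (l * a * l⁻¹) * l⁻¹⁻¹ = a by group] at this
  have hHeis : Heis p z W :=
    { mem := hzW
      comm := fun a ha b hb => ha.2.1 b (hWH hb)
      exp := fun a ha => ha.2.2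
      cent := fun a ha h => by
        rw [← hZW]
        exact ⟨ha, Subgroup.mem_centralizer_iff.2 fun b hb => (h b hb).symm⟩
      zcomm := fun a ha => (hzc a (hWH ha)).symm }
  -- `H` is `W` times the centralizer of `W`
  let U : Subgroup (MulAut V) := H ⊓ Subgroup.centralizer (W : Set (MulAut V))
  have hfac : ∀ h ∈ H, ∃ w ∈ W, w⁻¹ * h ∈ U := by
    intro h hh
    obtain ⟨w, hw, hwc⟩ := hHeis.exists_approx hzo (hzc h hh).symm fun w hw => by
      have h1 := inv_mem (hw.2.1 h hh)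
      rwa [show (w * h * w⁻¹ * h⁻¹)⁻¹ = h * w * h⁻¹ * w⁻¹ by group] at h1
    have h1 : w⁻¹ * h ∈ H := mul_mem (inv_mem (hWH hw)) hh
    exact ⟨w, hw, h1, Subgroup.mem_centralizer_iff.2 fun b hb => (hwc b hb).symm⟩
  have hUcyc : IsCyclic U := by
    by_contra hnc
    have hUp : IsPGroup p U := hH.to_le inf_le_left
    have hnt : ¬ IsCyclic (⊤ : Subgroup U) := fun h =>
      hnc (isCyclic_of_surjective (Subgroup.topEquiv : (⊤ : Subgroup U) ≃* U).toMonoidHom (MulEquiv.surjective _))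
    obtain ⟨A, -, hAn, ⟨hAc, hAp⟩, hAcard⟩ := CfsgLib.PGroup.exists_normal_elementary_sq hp hUp ⊤ hnt
    have hcomm_cen : ∀ a ∈ A, ∀ u : U, u * a * u⁻¹ * a⁻¹ ∈ Subgroup.center U := by
      intro a ha u
      by_cases hle : A ≤ Subgroup.center U
      · exact mul_mem (hle (hAn.conj_mem a ha u)) (inv_mem (hle ha))
      -- the image of `A` in the quotient by the centre has order `p`
      let π := QuotientGroup.mk' (Subgroup.center U)
      have hbar : (A.map π).Normal := hAn.map π (QuotientGroup.mk'_surjective _)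
      have hq : IsPGroup p (U ⧸ Subgroup.center U) := hUp.to_quotient _
      have hAne : A ≠ ⊥ := by
        intro h
        rw [h, Subgroup.card_bot] at hAcard
        exact absurd hAcard.symm (Nat.one_lt_pow two_ne_zero hpp.one_lt).ne'
      have : Nontrivial A := (Subgroup.nontrivial_iff_ne_bot A).2 hAne
      obtain ⟨c, hcA, hcc, hc1⟩ : ∃ c ∈ A, c ∈ Subgroup.center U ∧ c ≠ 1 := by
        let _ : MulAction U A :=
          { smul := fun u a => ⟨u * a * u⁻¹, hAn.conj_mem a a.2 u⟩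
            one_smul := fun a => Subtype.ext (by change (1 : U) * a * 1⁻¹ = a; group)
            mul_smul := fun u v a => Subtype.ext (by
              change u * v * a * (u * v)⁻¹ = u * (v * a * v⁻¹) * u⁻¹; group) }
        have hdvd : p ∣ Nat.card A := hAcard ▸ dvd_pow_self p two_ne_zero
        have hone : (1 : A) ∈ MulAction.fixedPoints U A := fun u => Subtype.ext (by
          change u * (1 : U) * u⁻¹ = 1; group)
        obtain ⟨c, hc, hcne⟩ := hUp.exists_fixed_point_of_prime_dvd_card_of_fixed_point A hdvd hone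
        refine ⟨c, c.2, Subgroup.mem_center_iff.2 fun g => ?_, fun h => hcne (Subtype.ext h.symm)⟩
        have h : g * c * g⁻¹ = c := congrArg Subtype.val (hc g)
        rwa [mul_inv_eq_iff_eq_mul] at h
      have hcard : Nat.card (A.map π) ∣ p := by
        have hm := Subgroup.relIndex_mul_relIndex (⊥ : Subgroup U) (A ⊓ π.ker) A bot_le inf_le_left
        rw [Subgroup.relIndex_bot_left, Subgroup.relIndex_bot_left, Subgroup.inf_relIndex_left,
          Subgroup.relIndex_ker, hAcard] at hm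
        have h1 : 1 < Nat.card (A ⊓ π.ker : Subgroup U) := by
          refine (Subgroup.one_lt_card_iff_ne_bot _).2 fun h => hc1 ?_
          have hm' : c ∈ A ⊓ π.ker := ⟨hcA, by rwa [QuotientGroup.ker_mk']⟩
          rwa [h, Subgroup.mem_bot] at hm'
        obtain ⟨i, hi, hi'⟩ := (Nat.dvd_prime_pow hpp).1
          (Dvd.intro_left _ hm : Nat.card (A.map π) ∣ p ^ 2)
        rw [hi']
        interval_cases i
        · simp
        · simp
        · exfalso
          rw [hi'] at hm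
          have hpos : 0 < p ^ 2 := pow_pos hpp.pos 2
          nlinarith
      let _ : MulAction (U ⧸ Subgroup.center U) (A.map π) :=
        { smul := fun u a => ⟨u * a * u⁻¹, hbar.conj_mem a a.2 u⟩
          one_smul := fun a => Subtype.ext (by change (1 : U ⧸ Subgroup.center U) * a * 1⁻¹ = a; group)
          mul_smul := fun u v a => Subtype.ext (by
            change u * v * a * (u * v)⁻¹ = u * (v * a * v⁻¹) * u⁻¹; group) }
      have hmod := hq.card_modEq_card_fixedPoints (A.map π)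
      have hall : ∀ a : A.map π, a ∈ MulAction.fixedPoints (U ⧸ Subgroup.center U) (A.map π) := by
        have h1 : (1 : A.map π) ∈ MulAction.fixedPoints (U ⧸ Subgroup.center U) (A.map π) := fun u =>
          Subtype.ext (by change u * (1 : U ⧸ Subgroup.center U) * u⁻¹ = 1; group)
        rcases (Nat.dvd_prime hpp).1 hcard with h | h
        · intro a
          have : Subsingleton (A.map π) := (Nat.card_eq_one_iff_unique.1 h).1
          rwa [Subsingleton.elim a 1]
        · intro a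
          rw [h, Nat.card_coe_set_eq] at hmod
          have hpos : 0 < (MulAction.fixedPoints (U ⧸ Subgroup.center U) (A.map π)).ncard :=
            (Set.ncard_pos (Set.toFinite _)).2 ⟨1, h1⟩
          have hdv : p ∣ (MulAction.fixedPoints (U ⧸ Subgroup.center U) (A.map π)).ncard := by
            rw [Nat.ModEq, Nat.mod_self] at hmod
            exact Nat.dvd_of_mod_eq_zero hmod.symm
          have huniv : MulAction.fixedPoints (U ⧸ Subgroup.center U) (A.map π) = Set.univ :=
            Set.eq_of_subset_of_ncard_le (Set.subset_univ _) (by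
              rw [Set.ncard_univ, h]; exact Nat.le_of_dvd hpos hdv)
          rw [huniv]; exact Set.mem_univ a
      rw [← QuotientGroup.eq_one_iff]
      have := congrArg Subtype.val (hall ⟨π a, a, ha, rfl⟩ (π u))
      change π u * π a * (π u)⁻¹ = π a at this
      change π (u * a * u⁻¹ * a⁻¹) = 1
      rw [map_mul, map_mul, map_mul, map_inv, map_inv, this, mul_inv_cancel]
    have hAle : A.map U.subtype ≤ Subgroup.zpowers z := by
      rintro _ ⟨a, ha, rfl⟩
      have hap : (a : MulAut V) ^ p = 1 := by rw [← Subgroup.coe_pow, hAp a ha, Subgroup.coe_one]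
      have haW : (a : MulAut V) ∈ W := by
        refine ⟨a.2.1, fun h hh => ?_, hap⟩
        obtain ⟨w, hw, hwu⟩ := hfac h hh
        have hwa : w * (a : MulAut V) = a * w := Subgroup.mem_centralizer_iff.1 a.2.2 w hw
        set u : U := ⟨w⁻¹ * h, hwu⟩ with hu
        have hc := hcomm_cen a ha u
        have hp1 : (u * a * u⁻¹ * a⁻¹) ^ p = 1 := hAp _ (mul_mem (hAn.conj_mem a ha u) (inv_mem ha))
        have hmem : ((u * a * u⁻¹ * a⁻¹ : U) : MulAut V) ∈ Z0 := by
          refine ⟨(u * a * u⁻¹ * a⁻¹).2.1, fun b hb => ?_, by rw [← Subgroup.coe_pow, hp1, Subgroup.coe_one]⟩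
          obtain ⟨w', hw', hwu'⟩ := hfac b hb
          have e1 : ((u * a * u⁻¹ * a⁻¹ : U) : MulAut V) * (w'⁻¹ * b) = (w'⁻¹ * b) * ((u * a * u⁻¹ * a⁻¹ : U) : MulAut V) :=
            congrArg Subtype.val (Subgroup.mem_center_iff.1 hc ⟨_, hwu'⟩).symm
          have e2 : w' * ((u * a * u⁻¹ * a⁻¹ : U) : MulAut V) = ((u * a * u⁻¹ * a⁻¹ : U) : MulAut V) * w' :=
            Subgroup.mem_centralizer_iff.1 (u * a * u⁻¹ * a⁻¹).2.2 w' hw'
          have := (show Commute ((u * a * u⁻¹ * a⁻¹ : U) : MulAut V) w' from e2.symm).mul_right e1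
          rwa [mul_inv_cancel_left] at this
        rw [hZ0] at hmem
        have h2 := inv_mem hmem
        simp only [Subgroup.coe_mul, Subgroup.coe_inv, hu] at h2
        rw [show (w⁻¹ * h * (a : MulAut V) * (w⁻¹ * h)⁻¹ * (a : MulAut V)⁻¹)⁻¹ =
          (a : MulAut V) * w⁻¹ * h * (a : MulAut V)⁻¹ * h⁻¹ * w by group] at h2
        have h3 : w * ((a : MulAut V) * w⁻¹ * h * (a : MulAut V)⁻¹ * h⁻¹ * w) * w⁻¹ ∈ Subgroup.zpowers z := by
          rw [← hzcen _ h2 w (hWH hw), mul_inv_cancel_right]; exact h2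
        rwa [show w * ((a : MulAut V) * w⁻¹ * h * (a : MulAut V)⁻¹ * h⁻¹ * w) * w⁻¹ =
          w * (a : MulAut V) * w⁻¹ * h * (a : MulAut V)⁻¹ * h⁻¹ by group, hwa, mul_inv_cancel_right] at h3
      rw [← hZW]
      exact ⟨haW, a.2.2⟩
    have := Subgroup.card_dvd_of_le hAle
    rw [Subgroup.card_map_of_injective U.subtype_injective, hAcard, Nat.card_zpowers, hzo] at this
    have := Nat.le_of_dvd hpp.pos this
    have : p * 1 < p * p := Nat.mul_lt_mul_of_pos_left hpp.one_lt hpp.pos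
    rw [pow_two] at *
    omega
  have hUcomm : ∀ u ∈ U, ∀ b ∈ H, u * b = b * u := by
    intro u hu b hb
    obtain ⟨w, hw, hwu⟩ := hfac b hb
    have e1 : u * (w⁻¹ * b) = (w⁻¹ * b) * u := congrArg Subtype.val
      ((IsCyclic.isMulCommutative : IsMulCommutative U).is_comm.comm ⟨u, hu⟩ ⟨_, hwu⟩)
    have e2 : w * u = u * w := Subgroup.mem_centralizer_iff.1 hu.2 w hw
    have := (show Commute u w from e2.symm).mul_right e1
    rwa [mul_inv_cancel_left] at this
  have hclass : ∀ a ∈ H, ∀ b ∈ H, a * b * a⁻¹ * b⁻¹ ∈ Subgroup.zpowers z := by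
    intro a ha b hb
    obtain ⟨w, hw, hwu⟩ := hfac a ha
    have h1 : a * b * a⁻¹ = w * b * w⁻¹ := by
      calc a * b * a⁻¹ = w * ((w⁻¹ * a) * b * (w⁻¹ * a)⁻¹) * w⁻¹ := by group
        _ = w * b * w⁻¹ := by rw [hUcomm _ hwu b hb, mul_inv_cancel_right]
    rw [h1]
    exact hw.2.1 b hb
  have hexp : ∀ a ∈ H, a ^ p = 1 := by
    intro a ha
    have hle : Subgroup.closure {x | x ∈ H ∧ x ^ p = 1} ≤ W :=
      (Subgroup.closure_le _).2 fun x hx => ⟨hx.1, fun b hb => hclass x hx.1 b hb, hx.2⟩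
    exact (hle (hgen ha)).2.2
  have hHW : H = W := le_antisymm (fun a ha => ⟨ha, fun b hb => hclass a ha b hb, hexp a ha⟩) hWH
  have hVne : (⊤ : Subgroup V) ≠ ⊥ := by
    intro h
    apply hz1
    refine MulEquiv.ext fun v => ?_
    have : v ∈ (⊥ : Subgroup V) := h ▸ Subgroup.mem_top v
    rw [Subgroup.mem_bot.1 this, map_one, map_one]
  have hstop : ∀ w : MulAut V, w • (⊤ : Subgroup V) = ⊤ := fun w =>
    top_le_iff.1 fun v _ => ⟨w⁻¹ v, Subgroup.mem_top _, w.apply_symm_apply v⟩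
  obtain ⟨n, hn, hbound⟩ := hHeis.card_bound hV hzo hfpf ⊤ hVne fun w _ => hstop w
  rw [Subgroup.card_top] at hbound
  by_contra! hcov
  classical
  have : Fintype V := Fintype.ofFinite V
  have : Fintype W := Fintype.ofFinite W
  have hnotz : ∀ v : V, v ≠ 1 → ∀ c : W, (c : MulAut V) ≠ 1 → (c : MulAut V) v = v →
      (c : MulAut V) ∉ Subgroup.zpowers z := by
    intro v hv c hc hcv hcz
    apply hv
    have h1 : Subgroup.zpowers (c : MulAut V) = Subgroup.zpowers z := by
      refine Subgroup.eq_of_le_of_card_ge (Subgroup.zpowers_le.2 hcz) ?_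
      rw [Nat.card_zpowers, Nat.card_zpowers, hzo, orderOf_eq_prime (hexp c (hWH c.2)) hc]
    have : v ∈ fixed (Subgroup.zpowers (c : MulAut V)) := mem_fixed_zpowers.2 hcv
    rwa [h1, hfpf, Subgroup.mem_bot] at this
  by_cases hWZ : W ≤ Subgroup.zpowers z
  · obtain ⟨v, -, hv⟩ := Subgroup.ne_bot_iff_exists_ne_one.1 hVne |> fun ⟨⟨v, hv⟩, h⟩ =>
      (⟨v, hv, fun e => h (Subtype.ext e)⟩ : ∃ v, v ∈ (⊤ : Subgroup V) ∧ v ≠ 1)
    obtain ⟨c, hc, hcp, hcv, hc1⟩ := hcov v
    rw [hHW] at hc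
    exact hnotz v hv ⟨c, hc⟩ hc1 hcv (hWZ hc)
  have hn1 : 1 ≤ n := by
    by_contra hc
    apply hWZ
    rw [show n = 0 by omega, mul_zero, zero_add, pow_one] at hn
    exact (Subgroup.eq_of_le_of_card_ge (Subgroup.zpowers_le.2 hzW) (by rw [Nat.card_zpowers, hzo, hn])).ge
  -- the largest fixed space of a noncentral element
  let T : Finset W := Finset.univ.filter fun c => (c : MulAut V) ∉ Subgroup.zpowers z
  obtain ⟨c0, hc0, hmax⟩ : ∃ c0 ∈ T, ∀ c ∈ T, Nat.card (fixed (Subgroup.zpowers (c : MulAut V))) ≤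
      Nat.card (fixed (Subgroup.zpowers (c0 : MulAut V))) := by
    refine Finset.exists_max_image T _ ?_
    obtain ⟨x, hx, hxZ⟩ := SetLike.not_le_iff_exists.1 hWZ
    exact ⟨⟨x, hx⟩, Finset.mem_filter.2 ⟨Finset.mem_univ _, hxZ⟩⟩
  obtain ⟨m, hm⟩ : ∃ m, m = Nat.card (fixed (Subgroup.zpowers (c0 : MulAut V))) := ⟨_, rfl⟩
  rw [← hm] at hmax
  have hm1 : 1 ≤ m := hm ▸ Nat.card_pos
  have hmp : m ^ p ≤ Nat.card V := by
    have hxZ := (Finset.mem_filter.1 hc0).2
    obtain ⟨y, hy, hyx⟩ := hHeis.exists_partner hzo c0.2 hxZ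
    have := card_fixed_pow_le hV hzo hfpf (hexp c0 (hWH c0.2)) (hHeis.zcomm c0 c0.2) (hHeis.zcomm y hy) hyx ⊤ (hstop y)
    rwa [top_inf_eq, Subgroup.card_top, ← hm] at this
  let fx : W → Finset V := fun c => Finset.univ.filter fun v => v ≠ 1 ∧ (c : MulAut V) v = v
  have hfx : ∀ c ∈ T, (fx c).card + 1 ≤ m := by
    intro c hc
    refine le_trans (le_of_eq ?_) (hmax c hc)
    rw [Nat.card_eq_fintype_card, ← Finset.card_univ,
      show Finset.card (Finset.univ : Finset (fixed (Subgroup.zpowers (c : MulAut V)))) =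
        (insert 1 (fx c)).card from ?_, Finset.card_insert_of_notMem (by simp [fx])]
    refine Finset.card_bij (fun v _ => (v : V)) (fun v _ => ?_) (fun _ _ _ _ h => Subtype.ext h) ?_
    · rw [Finset.mem_insert]
      by_cases hv : (v : V) = 1
      · exact Or.inl hv
      · exact Or.inr (Finset.mem_filter.2 ⟨Finset.mem_univ _, hv, mem_fixed_zpowers.1 v.2⟩)
    · intro v hv
      refine ⟨⟨v, mem_fixed_zpowers.2 ?_⟩, Finset.mem_univ _, rfl⟩
      rcases Finset.mem_insert.1 hv with rfl | hv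
      · exact map_one _
      · exact (Finset.mem_filter.1 hv).2.2
  have hdouble : 2 * ((Finset.univ : Finset V).erase 1).card ≤ ∑ c ∈ T, (fx c).card := by
    have h1 : ∀ v ∈ (Finset.univ : Finset V).erase 1, 2 ≤ (T.filter fun c => v ∈ fx c).card := by
      intro v hv
      have hv1 := (Finset.mem_erase.1 hv).1
      obtain ⟨c, hc, hcp, hcv, hc1⟩ := hcov v
      rw [hHW] at hc
      let cW : W := ⟨c, hc⟩
      have hinv : ((cW⁻¹ : W) : MulAut V) v = v := by
        change c⁻¹ v = v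
        conv_lhs => rw [← hcv]
        exact c.symm_apply_apply v
      refine Finset.one_lt_card.2 ⟨cW, ?_, cW⁻¹, ?_, ?_⟩
      · simp only [Finset.mem_filter, fx, T, Finset.mem_univ, true_and]
        exact ⟨hnotz v hv1 cW hc1 hcv, hv1, hcv⟩
      · simp only [Finset.mem_filter, fx, T, Finset.mem_univ, true_and]
        exact ⟨hnotz v hv1 cW⁻¹ (by simpa [cW] using hc1) hinv, hv1, hinv⟩
      · intro h
        apply hc1
        have h2 : c * c = 1 := by
          have := congrArg (fun a : W => (a : MulAut V) * c) h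
          simpa [cW] using this
        obtain ⟨j, hj⟩ := hpp.odd_of_ne_two hp
        have h3 := hexp c (hWH hc)
        rwa [hj, pow_succ, pow_mul, pow_two, h2, one_pow, one_mul] at h3
    calc 2 * ((Finset.univ : Finset V).erase 1).card = ∑ _v ∈ (Finset.univ : Finset V).erase 1, 2 := by
          rw [Finset.sum_const, smul_eq_mul, mul_comm]
      _ ≤ ∑ v ∈ (Finset.univ : Finset V).erase 1, (T.filter fun c => v ∈ fx c).card := Finset.sum_le_sum h1
      _ ≤ ∑ v : V, (T.filter fun c => v ∈ fx c).card := Finset.sum_le_sum_of_subset (Finset.erase_subset _ _)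
      _ = ∑ c ∈ T, (fx c).card := by
          have := Finset.sum_card_bipartiteAbove_eq_sum_card_bipartiteBelow (fun c v => v ∈ fx c) (s := T)
            (t := (Finset.univ : Finset V))
          simp only [Finset.bipartiteAbove, Finset.bipartiteBelow, Finset.filter_univ_mem] at this
          exact this.symm
  have hTcard : T.card + p ≤ p ^ (2 * n + 1) := by
    rw [← hn, Nat.card_eq_fintype_card, ← hzo, ← Nat.card_zpowers]
    have h1 : (Finset.univ.filter fun c : W => (c : MulAut V) ∈ Subgroup.zpowers z).card =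
        Nat.card (Subgroup.zpowers z) := by
      rw [← Fintype.card_subtype, ← Nat.card_eq_fintype_card]
      exact Nat.card_congr ⟨fun c => ⟨c.1.1, c.2⟩, fun a => ⟨⟨a.1, Subgroup.zpowers_le.2 hzW a.2⟩, a.2⟩,
        fun c => rfl, fun a => rfl⟩
    rw [← h1, add_comm, Finset.card_filter_add_card_filter_not, Finset.card_univ]
  rw [Finset.card_erase_of_mem (Finset.mem_univ _), Finset.card_univ, ← Nat.card_eq_fintype_card] at hdouble
  have hsum : ∑ c ∈ T, (fx c).card + T.card ≤ T.card * m := by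
    rw [Finset.card_eq_sum_ones T, Finset.sum_mul, ← Finset.sum_add_distrib]
    simp only [one_mul]
    exact Finset.sum_le_sum hfx
  have hVpos : 0 < Nat.card V := Nat.card_pos
  have hkey : 2 * Nat.card V ≤ p ^ (2 * n + 1) * m := by
    have : (T.card + p) * m ≤ p ^ (2 * n + 1) * m := Nat.mul_le_mul_right m hTcard
    have : 2 ≤ p * m := le_trans hpp.two_le (Nat.le_mul_of_pos_right p hm1)
    rw [add_mul] at *
    omega
  have h1 : (2 * Nat.card V) ^ p ≤ (p ^ (2 * n + 1)) ^ p * Nat.card V := by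
    refine (Nat.pow_le_pow_left hkey p).trans ?_
    rw [mul_pow]
    exact Nat.mul_le_mul_left _ hmp
  have h2 := arith_bound hpp hp hn1 hbound
  rw [mul_pow, ← Nat.succ_pred_eq_of_pos hpp.pos, pow_succ (Nat.card V), Nat.succ_pred_eq_of_pos hpp.pos,
    ← mul_assoc, show p.pred = p - 1 from rfl] at h1
  have := Nat.le_of_mul_le_mul_right h1 hVpos
  omega

end CfsgLib.PFixCover
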